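import Mathlib

/-! Three-cycles and the relation `(x * y) ^ 2 = 1`. -/

set_option autoImplicit false
set_option linter.unusedSectionVars false
set_option linter.unusedVariables false

namespace Cfsg.Agent.H09

open Equiv Equiv.Perm

variable {α : Type*} [DecidableEq α]

/-- The three-cycle `a ↦ b ↦ c ↦ a`. -/
def t3 (a b c : α) : Perm α := swap a b * swap b c

/-- three distinct points -/
structure D3 (a b c : α) : Prop where
  ab : a ≠ b
  bc : b ≠ c
  ac : a ≠ c

theorem t3_apply {a b c : α} (h : D3 a b c) (p : α) :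
    t3 a b c p = if p = a then b else if p = b then c else if p = c then a else p := by
  obtain ⟨hab, hbc, hac⟩ := h
  simp only [t3, Perm.mul_apply]
  by_cases h1 : p = a
  · subst h1
    rw [swap_apply_of_ne_of_ne hab hac]
    simp
  by_cases h2 : p = b
  · subst h2
    simp only [swap_apply_left]
    rw [swap_apply_of_ne_of_ne hac.symm hbc.symm]
    simp [hab.symm]
  by_cases h3 : p = c
  · subst h3
    simp [hac.symm, hbc.symm]
  simp [h1, h2, h3, swap_apply_of_ne_of_ne h2 h3, swap_apply_of_ne_of_ne h1 h2]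

theorem t3_conj (g : Perm α) (a b c : α) : g * t3 a b c * g⁻¹ = t3 (g a) (g b) (g c) := by
  simp only [t3]
  have h1 : ∀ x y : α, g * swap x y * g⁻¹ = swap (g x) (g y) := fun x y =>
    (Equiv.swap_apply_apply g x y).symm
  rw [← h1, ← h1]
  group

theorem D3.rot {a b c : α} (h : D3 a b c) : D3 b c a := ⟨h.bc, h.ac.symm, h.ab.symm⟩

theorem D3.map {a b c : α} (h : D3 a b c) (g : Perm α) : D3 (g a) (g b) (g c) :=
  ⟨fun e => h.ab (g.injective e), fun e => h.bc (g.injective e), fun e => h.ac (g.injective e)⟩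

theorem t3_rot {a b c : α} (h : D3 a b c) : t3 b c a = t3 a b c := by
  ext p
  rw [t3_apply h, t3_apply h.rot]
  grind [h.ab, h.bc, h.ac]

theorem t3_inv {a b c : α} : (t3 a b c)⁻¹ = t3 c b a := by
  simp only [t3, mul_inv_rev, swap_inv]
  rw [swap_comm b c, swap_comm a b]

/-- Values of a product: the relation at a point. -/
theorem lemC_core {a b c d e f : α} (h1 : D3 a b c) (h2 : D3 d e f)
    (h : ∀ p, t3 a b c (t3 d e f (t3 a b c (t3 d e f p))) = p)
    (hne1 : t3 a b c ≠ t3 d e f) (hne2 : t3 a b c ≠ (t3 d e f)⁻¹)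
    (hd : d = a) (he : e = b ∨ e = c) :
    ∃ p q r s, D3 p q r ∧ D3 p q s ∧ r ≠ s ∧ t3 a b c = t3 p q r ∧ t3 d e f = t3 p q s := by
  subst hd
  rcases he with rfl | rfl
  · by_cases hf : f = c
    · subst hf
      exact absurd rfl hne1
    · exact ⟨d, e, c, f, h1, h2, fun h => hf h.symm, rfl, rfl⟩
  · by_cases hf : f = b
    · subst hf
      exact absurd (by rw [t3_inv, t3_rot h1]) hne2
    · exfalso
      have := h e
      simp only [t3_apply h1, t3_apply h2] at this
      have := h1.ab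
      have := h1.bc
      have := h1.ac
      have := h2.ab
      have := h2.bc
      have := h2.ac
      grind

theorem lemC_2 {a b c d e f : α} (h1 : D3 a b c) (h2 : D3 d e f)
    (h : ∀ p, t3 a b c (t3 d e f (t3 a b c (t3 d e f p))) = p)
    (hne1 : t3 a b c ≠ t3 d e f) (hne2 : t3 a b c ≠ (t3 d e f)⁻¹)
    (hd : d = a ∨ d = b ∨ d = c) (he : e = a ∨ e = b ∨ e = c) :
    ∃ p q r s, D3 p q r ∧ D3 p q s ∧ r ≠ s ∧ t3 a b c = t3 p q r ∧ t3 d e f = t3 p q s := by
  have hde := h2.ab
  rcases hd with rfl | rfl | rfl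
  · exact lemC_core h1 h2 h hne1 hne2 rfl (by tauto)
  · have e1 := t3_rot h1
    rw [← e1] at h hne1 hne2 ⊢
    exact lemC_core h1.rot h2 h hne1 hne2 rfl (by tauto)
  · have e1 := t3_rot h1
    have e2 := t3_rot h1.rot
    have e3 : t3 a b d = t3 d a b := by rw [e2, e1]
    rw [e3] at h hne1 hne2 ⊢
    exact lemC_core h1.rot.rot h2 h hne1 hne2 rfl (by tauto)

theorem lemC_out {a b c d e f : α} (h1 : D3 a b c) (h2 : D3 d e f)
    (h : ∀ p, t3 a b c (t3 d e f (t3 a b c (t3 d e f p))) = p) :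
    (d = a ∨ d = b ∨ d = c) ∨ (e = a ∨ e = b ∨ e = c) := by
  by_contra hcon
  push_neg at hcon
  obtain ⟨⟨d1, d2, d3⟩, e1, e2, e3⟩ := hcon
  have := h d
  simp only [t3_apply h1, t3_apply h2] at this
  have := h1.ab
  have := h1.bc
  have := h1.ac
  have := h2.ab
  have := h2.bc
  have := h2.ac
  grind

theorem lemC {a b c d e f : α} (h1 : D3 a b c) (h2 : D3 d e f)
    (h : ∀ p, t3 a b c (t3 d e f (t3 a b c (t3 d e f p))) = p)
    (hne1 : t3 a b c ≠ t3 d e f) (hne2 : t3 a b c ≠ (t3 d e f)⁻¹) :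
    ∃ p q r s, D3 p q r ∧ D3 p q s ∧ r ≠ s ∧ t3 a b c = t3 p q r ∧ t3 d e f = t3 p q s := by
  have r1 := t3_rot h2
  have r2 := t3_rot h2.rot
  have o1 := lemC_out h1 h2 h
  have o2 := lemC_out h1 h2.rot (by rw [r1]; exact h)
  have o3 := lemC_out h1 h2.rot.rot (by rw [r2, r1]; exact h)
  by_cases hd : d = a ∨ d = b ∨ d = c
  · by_cases he : e = a ∨ e = b ∨ e = c
    · exact lemC_2 h1 h2 h hne1 hne2 hd he
    · have hf : f = a ∨ f = b ∨ f = c := o2.resolve_left he
      have := lemC_2 h1 h2.rot.rot (by rw [r2, r1]; exact h) (by rw [r2, r1]; exact hne1)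
        (by rw [r2, r1]; exact hne2) hf hd
      rwa [r2, r1] at this
  · have he : e = a ∨ e = b ∨ e = c := o1.resolve_left hd
    have hf : f = a ∨ f = b ∨ f = c := o3.resolve_right hd
    have := lemC_2 h1 h2.rot (by rw [r1]; exact h) (by rw [r1]; exact hne1)
      (by rw [r1]; exact hne2) he hf
    rwa [r1] at this

/-- A third cycle. -/
theorem lemD {a b c e p q s : α} (h1 : D3 a b c) (h2 : D3 a b e) (hce : c ≠ e)
    (hd : D3 p q s)
    (hxz : ∀ t, t3 a b c (t3 p q s (t3 a b c (t3 p q s t))) = t)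
    (hyz : ∀ t, t3 a b e (t3 p q s (t3 a b e (t3 p q s t))) = t)
    (hne1 : t3 a b c ≠ t3 p q s) (hne2 : t3 a b c ≠ (t3 p q s)⁻¹) :
    ∃ g, D3 a b g ∧ t3 p q s = t3 a b g := by
  obtain ⟨p', q', r', s', d1, d2, hrs, e1, e2⟩ := lemC h1 hd hxz hne1 hne2
  rw [e2] at hyz ⊢
  have v1 := congrArg (fun x : Perm α => x p') e1
  have v2 := congrArg (fun x : Perm α => x q') e1
  simp only [t3_apply h1, t3_apply d1] at v1 v2
  have := h1.ab
  have := h1.bc
  have := h1.ac
  have := d1.ab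
  have := d1.bc
  have := d1.ac
  have hp : (p' = a ∧ q' = b) ∨ (p' = b ∧ q' = c ∧ r' = a) ∨ (p' = c ∧ q' = a ∧ r' = b) := by
    have v3 := congrArg (fun x : Perm α => x r') e1
    simp only [t3_apply h1, t3_apply d1] at v3
    grind
  rcases hp with ⟨h1', h2'⟩ | ⟨h1', h2', h3'⟩ | ⟨h1', h2', h3'⟩
  · rw [h1', h2'] at d2 ⊢
    exact ⟨s', d2, rfl⟩
  · rw [h1', h2'] at hyz d2
    exfalso
    have := hyz c
    simp only [t3_apply h2, t3_apply d2] at this
    have := d2.ab
    have := d2.bc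
    have := d2.ac
    have := h2.ab
    have := h2.bc
    have := h2.ac
    grind
  · rw [h1', h2'] at hyz d2
    exfalso
    have := hyz c
    simp only [t3_apply h2, t3_apply d2] at this
    have := d2.ab
    have := d2.bc
    have := d2.ac
    have := h2.ab
    have := h2.bc
    have := h2.ac
    grind

end Cfsg.Agent.H09
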