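import Cfsg.Agent.Lib.H09.AltAut1

/-! Automorphisms of the alternating groups preserve three-cycles. -/

set_option autoImplicit false
set_option linter.unusedSectionVars false
set_option linter.unusedVariables false

namespace Cfsg.Agent.H09

open Equiv Equiv.Perm
open scoped Nat

theorem fac_ineq_aux (j : ℕ) : 2 * (3 ^ (j + 3) * (j + 3)!) < 3 * (3 * j + 6)! := by
  induction j with
  | zero => decide
  | succ j ih =>
    have e1 : 3 * (j + 1) + 6 = (3 * j + 8) + 1 := by ring
    have e2 : (j + 1 + 3) = (j + 3) + 1 := by ring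
    rw [e1, e2, Nat.factorial_succ (3 * j + 8), Nat.factorial_succ (j + 3),
      show 3 * j + 8 = (3 * j + 7) + 1 by ring, Nat.factorial_succ (3 * j + 7),
      show 3 * j + 7 = (3 * j + 6) + 1 by ring, Nat.factorial_succ (3 * j + 6), pow_succ]
    have h0 : 0 < (3 * j + 6)! := Nat.factorial_pos _
    have h1 : 3 * (j + 3 + 1) ≤ (3 * j + 8 + 1) * ((3 * j + 7 + 1) * (3 * j + 6 + 1)) := by
      have h2 : 2 ≤ (3 * j + 7 + 1) * (3 * j + 6 + 1) := by nlinarith [Nat.zero_le j]
      calc 3 * (j + 3 + 1) ≤ (3 * j + 8 + 1) * 2 := by omega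
        _ ≤ _ := Nat.mul_le_mul_left _ h2
    calc 2 * (3 ^ (j + 3) * 3 * ((j + 3 + 1) * (j + 3)!))
        = (3 * (j + 3 + 1)) * (2 * (3 ^ (j + 3) * (j + 3)!)) := by ring
      _ < (3 * (j + 3 + 1)) * (3 * (3 * j + 6)!) := by
          exact Nat.mul_lt_mul_of_pos_left ih (by omega)
      _ ≤ ((3 * j + 8 + 1) * ((3 * j + 7 + 1) * (3 * j + 6 + 1))) * (3 * (3 * j + 6)!) :=
          Nat.mul_le_mul_right _ h1
      _ = _ := by ring

theorem fac_ineq {n k : ℕ} (hk : 2 ≤ k) (h3 : 3 * k ≤ n) (h6 : n ≠ 6) :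
    2 * ((n - 3 * k)! * 3 ^ k * k !) < 3 * (n - 3)! := by
  obtain ⟨m, rfl⟩ := Nat.exists_eq_add_of_le h3
  rw [Nat.add_sub_cancel_left]
  rcases Nat.lt_or_ge k 3 with h | h
  · have : k = 2 := by omega
    subst this
    have hm : 1 ≤ m := by
      rcases Nat.eq_zero_or_pos m with h0 | h0
      · subst h0; exact absurd rfl h6
      · exact h0
    obtain ⟨r, rfl⟩ := Nat.exists_eq_add_of_le hm
    have e : 3 * 2 + (1 + r) - 3 = (r + 3) + 1 := by omega
    have e3 : (r + 3 + 1)! = (r + 4) * (r + 3) * (r + 2) * ((r + 1) * r !) := by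
      simp only [Nat.factorial_succ, show r + 3 = r + 2 + 1 by ring, show r + 2 = r + 1 + 1 by ring]
      ring
    have e4 : (1 + r)! = (r + 1) * r ! := by
      rw [show 1 + r = r + 1 by ring, Nat.factorial_succ]
    have e2 : (2 : ℕ)! = 2 := rfl
    rw [e, e3, e4, e2]
    have hX : 0 < (r + 1) * r ! := Nat.mul_pos (Nat.succ_pos r) (Nat.factorial_pos _)
    have h24 : 24 ≤ (r + 4) * (r + 3) * (r + 2) :=
      Nat.mul_le_mul (Nat.mul_le_mul (show 4 ≤ r + 4 by omega) (show 3 ≤ r + 3 by omega))
        (show 2 ≤ r + 2 by omega)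
    calc 2 * ((r + 1) * r ! * 3 ^ 2 * 2) = 36 * ((r + 1) * r !) := by ring
      _ < 72 * ((r + 1) * r !) := Nat.mul_lt_mul_of_pos_right (by norm_num) hX
      _ = 3 * (24 * ((r + 1) * r !)) := by ring
      _ ≤ 3 * (((r + 4) * (r + 3) * (r + 2)) * ((r + 1) * r !)) :=
        Nat.mul_le_mul_left _ (Nat.mul_le_mul_right _ h24)
  · obtain ⟨j, rfl⟩ := Nat.exists_eq_add_of_le h
    have e : 3 * (3 + j) + m - 3 = (3 * j + 6) + m := by omega
    rw [e]
    have h1 := fac_ineq_aux j
    rw [show j + 3 = 3 + j by ring] at h1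
    have h2 : (3 * j + 6)! * m ! ≤ (3 * j + 6 + m)! :=
      Nat.le_of_dvd (Nat.factorial_pos _) (Nat.factorial_mul_factorial_dvd_factorial_add _ _)
    have h0 : 0 < m ! := Nat.factorial_pos _
    calc 2 * (m ! * 3 ^ (3 + j) * (3 + j)!) = (2 * (3 ^ (3 + j) * (3 + j)!)) * m ! := by ring
      _ < (3 * (3 * j + 6)!) * m ! := Nat.mul_lt_mul_of_pos_right h1 h0
      _ = 3 * ((3 * j + 6)! * m !) := by ring
      _ ≤ 3 * (3 * j + 6 + m)! := Nat.mul_le_mul_left _ h2

variable {α : Type*} [DecidableEq α] [Fintype α]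

theorem card_cent_alt_le (g : alternatingGroup α) :
    Nat.card (Subgroup.centralizer {g}) ≤ Nat.card (Subgroup.centralizer {(g : Perm α)}) := by
  refine Nat.card_le_card_of_injective (fun x => ⟨(x.1 : Perm α), ?_⟩) ?_
  · rw [Subgroup.mem_centralizer_singleton_iff]
    have := Subgroup.mem_centralizer_singleton_iff.1 x.2
    exact congrArg (Subtype.val) this
  · intro x y h
    have : (x.1 : Perm α) = y.1 := Subtype.mk.inj h
    exact Subtype.ext (Subtype.ext this)

theorem card_cent_le_two_mul (g : alternatingGroup α) :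
    Nat.card (Subgroup.centralizer {(g : Perm α)}) ≤ 2 * Nat.card (Subgroup.centralizer {g}) := by
  set C := Subgroup.centralizer {(g : Perm α)} with hC
  set K : Subgroup C := (alternatingGroup α).subgroupOf C with hK
  have h1 : Nat.card K * K.index = Nat.card C := K.card_mul_index
  have h2 : K.index ≤ 2 := by
    by_cases hnt : Nontrivial α
    · have h3 : K.index ∣ (alternatingGroup α).index := Subgroup.relIndex_dvd_index_of_normal _ _
      rw [alternatingGroup.index_eq_two] at h3
      exact Nat.le_of_dvd (by norm_num) h3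
    · rw [not_nontrivial_iff_subsingleton] at hnt
      have : (alternatingGroup α) = ⊤ := by
        ext x
        simp [Subsingleton.elim x 1]
      rw [hK, this]
      simp
  have h3 : Nat.card K ≤ Nat.card (Subgroup.centralizer {g}) := by
    refine Nat.card_le_card_of_injective (fun x => ⟨⟨((x.1 : C) : Perm α), x.2⟩, ?_⟩) ?_
    · rw [Subgroup.mem_centralizer_singleton_iff]
      have := Subgroup.mem_centralizer_singleton_iff.1 x.1.2
      exact Subtype.ext this
    · intro x y h
      have : ((x.1 : C) : Perm α) = y.1 := Subtype.mk.inj (Subtype.mk.inj h)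
      exact Subtype.ext (Subtype.ext this)
  calc Nat.card C = Nat.card K * K.index := h1.symm
    _ ≤ Nat.card (Subgroup.centralizer {g}) * 2 := Nat.mul_le_mul h3 h2
    _ = _ := by ring

theorem card_cent_aut (f : MulAut (alternatingGroup α)) (g : alternatingGroup α) :
    Nat.card (Subgroup.centralizer {g}) = Nat.card (Subgroup.centralizer {f g}) := by
  refine Nat.card_congr ⟨fun x => ⟨f x.1, ?_⟩, fun y => ⟨f.symm y.1, ?_⟩, ?_, ?_⟩
  · rw [Subgroup.mem_centralizer_singleton_iff]
    have := Subgroup.mem_centralizer_singleton_iff.1 x.2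
    rw [← map_mul, this, map_mul]
  · rw [Subgroup.mem_centralizer_singleton_iff]
    have := Subgroup.mem_centralizer_singleton_iff.1 y.2
    apply f.injective
    rw [map_mul, map_mul, MulEquiv.apply_symm_apply, this]
  · intro x
    simp
  · intro x
    simp

theorem threeCycle_preserved (h6 : Fintype.card α ≠ 6) (f : MulAut (alternatingGroup α))
    (g : alternatingGroup α) (hg : (g : Perm α).IsThreeCycle) :
    ((f g : alternatingGroup α) : Perm α).IsThreeCycle := by
  set h : alternatingGroup α := f g with hh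
  have ho : orderOf (h : Perm α) = 3 := by
    rw [Subgroup.orderOf_coe, hh, MulEquiv.orderOf_eq, ← Subgroup.orderOf_coe, hg.orderOf]
  obtain ⟨m, hm⟩ := cycleType_prime_order (σ := (h : Perm α)) (by rw [ho]; norm_num)
  rw [ho] at hm
  rcases Nat.eq_zero_or_pos m with rfl | hmpos
  · exact hm
  exfalso
  set k := m + 1 with hk
  have hsum : 3 * k ≤ Fintype.card α := by
    have := (h : Perm α).sum_cycleType_le
    rw [hm, Multiset.sum_replicate] at this
    simpa [mul_comm] using this
  have hineq := fac_ineq (n := Fintype.card α) (k := k) (by omega) hsum h6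
  have c1 := nat_card_centralizer (h : Perm α)
  have c2 := nat_card_centralizer (g : Perm α)
  have hgt : (g : Perm α).cycleType = {3} := hg
  rw [hm] at c1
  rw [hgt] at c2
  have hs1 : (Multiset.replicate k 3).sum = 3 * k := by simp [mul_comm]
  have hs2 : (Multiset.replicate k 3).prod = 3 ^ k := by simp
  have hs3 : (∏ n ∈ (Multiset.replicate k 3).toFinset, ((Multiset.replicate k 3).count n)!) = k ! := by
    rw [Multiset.toFinset_replicate]
    simp [show k ≠ 0 by omega]
  rw [hs1, hs2, hs3] at c1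
  have hs4 : (∏ n ∈ ({3} : Multiset ℕ).toFinset, (({3} : Multiset ℕ).count n)!) = 1 := by
    simp
  rw [hs4] at c2
  simp only [Multiset.sum_singleton, Multiset.prod_singleton, mul_one] at c2
  have b1 := card_cent_alt_le h
  have b2 := card_cent_le_two_mul g
  have b3 := card_cent_aut f g
  rw [← hh] at b3
  rw [c1, ← b3] at b1
  rw [c2] at b2
  have : (Fintype.card α - 3)! * 3 ≤ 2 * ((Fintype.card α - 3 * k)! * 3 ^ k * k !) :=
    b2.trans (Nat.mul_le_mul_left _ b1)
  rw [mul_comm ((Fintype.card α - 3)!) 3] at this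
  exact absurd hineq (not_lt.2 this)

end Cfsg.Agent.H09
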