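import Cfsg.Agent.Lib.H09.AltAut2

/-! Automorphisms of the alternating groups. -/

set_option autoImplicit false
set_option linter.unusedSectionVars false
set_option linter.unusedVariables false

namespace Cfsg.Agent.H09

open Equiv Equiv.Perm

variable {α : Type*} [DecidableEq α]

theorem t3_a {a b c : α} (h : D3 a b c) : t3 a b c a = b := by
  rw [t3_apply h, if_pos rfl]

theorem t3_b {a b c : α} (h : D3 a b c) : t3 a b c b = c := by
  rw [t3_apply h, if_neg h.ab.symm, if_pos rfl]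

theorem t3_c {a b c : α} (h : D3 a b c) : t3 a b c c = a := by
  rw [t3_apply h, if_neg h.ac.symm, if_neg h.bc.symm, if_pos rfl]

theorem t3_o {a b c p : α} (h : D3 a b c) (h1 : p ≠ a) (h2 : p ≠ b) (h3 : p ≠ c) : t3 a b c p = p := by
  rw [t3_apply h, if_neg h1, if_neg h2, if_neg h3]

theorem isThreeCycle_t3 [Fintype α] {a b c : α} (h : D3 a b c) : (t3 a b c).IsThreeCycle := by
  unfold t3
  rw [swap_comm a b]
  exact isThreeCycle_swap_mul_swap_same h.ab.symm h.bc h.ac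

theorem exists_t3 [Fintype α] {x : Perm α} (hx : x.IsThreeCycle) :
    ∃ a b c, D3 a b c ∧ x = t3 a b c := by
  have hs : x.support.card = 3 := hx.card_support
  obtain ⟨a, b, c, hab, hac, hbc, -⟩ := Finset.card_eq_three.1 hs
  have h0 : D3 a b c := ⟨hab, hbc, hac⟩
  have hconj : IsConj (t3 a b c) x := by
    rw [isConj_iff_cycleType_eq, hx.cycleType, (isThreeCycle_t3 h0).cycleType]
  obtain ⟨g, hg⟩ := isConj_iff.1 hconj
  refine ⟨g a, g b, g c, h0.map g, ?_⟩
  rw [← hg, t3_conj]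

theorem gen_t3 (H : Subgroup (Perm α)) {p q : α} (hpq : p ≠ q)
    (hH : ∀ k, D3 p q k → t3 p q k ∈ H) : ∀ a b c, D3 a b c → t3 a b c ∈ H := by
  have hconj : ∀ g, g ∈ H → ∀ a b c, t3 a b c ∈ H → t3 (g a) (g b) (g c) ∈ H := by
    intro g hg a b c ht
    rw [← t3_conj]
    exact H.mul_mem (H.mul_mem hg ht) (H.inv_mem hg)
  have s1 : ∀ i j, D3 p q i → D3 p q j → i ≠ j → t3 q i j ∈ H := by
    intro i j hi hj hij
    have := hconj _ (hH i hi) _ _ _ (hH j hj)
    rwa [t3_a hi, t3_b hi, t3_o hi hj.ac.symm hj.bc.symm hij.symm] at this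
  have s2 : ∀ i j, D3 p q i → D3 p q j → i ≠ j → t3 p i j ∈ H := by
    intro i j hi hj hij
    have hg : t3 j q p ∈ H := by
      have := H.inv_mem (hH j hj)
      rwa [t3_inv] at this
    have hj' : D3 j q p := ⟨hj.bc.symm, hj.ab.symm, hj.ac.symm⟩
    have := hconj _ hg _ _ _ (hH i hi)
    rw [t3_c hj', t3_b hj', t3_o hj' hij hi.bc.symm hi.ac.symm] at this
    have hD : D3 j p i := ⟨hj.ac.symm, hi.ac, hij.symm⟩
    rwa [← t3_rot hD] at this
  have s3 : ∀ i j k, D3 p q i → D3 p q j → D3 p q k → D3 i j k → t3 i j k ∈ H := by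
    intro i j k hi hj hk hijk
    have hqjk : D3 q j k := ⟨hj.bc, hijk.bc, hk.bc⟩
    have := hconj _ (hH i hi) _ _ _ (s1 j k hj hk hijk.bc)
    rwa [t3_b hi, t3_o hi hj.ac.symm hj.bc.symm hijk.ab.symm,
      t3_o hi hk.ac.symm hk.bc.symm hijk.ac.symm] at this
  have gen_p : ∀ b c, D3 p b c → t3 p b c ∈ H := by
    intro b c h
    by_cases hb : b = q
    · subst hb
      exact hH c h
    by_cases hc : c = q
    · subst hc
      have hD : D3 p c b := ⟨hpq, fun e => hb e.symm, h.ab⟩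
      have := H.inv_mem (hH b hD)
      rw [t3_inv] at this
      rwa [t3_rot h] at this
    · exact s2 b c ⟨hpq, fun e => hb e.symm, h.ab⟩ ⟨hpq, fun e => hc e.symm, h.ac⟩ h.bc
  have gen_q : ∀ b c, D3 q b c → t3 q b c ∈ H := by
    intro b c h
    by_cases hb : b = p
    · subst hb
      have hD : D3 b q c := ⟨hpq, h.ac, h.bc⟩
      have := H.inv_mem (hH c hD)
      rw [t3_inv] at this
      have hD2 : D3 c q b := ⟨h.ac.symm, h.ab, h.bc.symm⟩
      rwa [← t3_rot hD2] at this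
    by_cases hc : c = p
    · subst hc
      have hD : D3 c q b := ⟨hpq, h.ab, fun e => hb e.symm⟩
      rw [t3_rot hD]
      exact hH b hD
    · exact s1 b c ⟨hpq, h.ab, fun e => hb e.symm⟩ ⟨hpq, h.ac, fun e => hc e.symm⟩ h.bc
  intro a b c h
  by_cases ha : a = p
  · subst ha
    exact gen_p b c h
  by_cases ha' : a = q
  · subst ha'
    exact gen_q b c h
  by_cases hb : b = p
  · subst hb
    rw [← t3_rot h]
    exact gen_p c a h.rot
  by_cases hb' : b = q
  · subst hb'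
    rw [← t3_rot h]
    exact gen_q c a h.rot
  by_cases hc : c = p
  · subst hc
    have hD : D3 c a b := ⟨h.ac.symm, h.ab, h.bc.symm⟩
    rw [t3_rot hD]
    exact gen_p a b hD
  by_cases hc' : c = q
  · subst hc'
    have hD : D3 c a b := ⟨h.ac.symm, h.ab, h.bc.symm⟩
    rw [t3_rot hD]
    exact gen_q a b hD
  exact s3 a b c ⟨hpq, fun e => ha' e.symm, fun e => ha e.symm⟩ ⟨hpq, fun e => hb' e.symm, fun e => hb e.symm⟩
    ⟨hpq, fun e => hc' e.symm, fun e => hc e.symm⟩ h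

theorem t3_rel {p q j k : α} (hj : D3 p q j) (hk : D3 p q k) (hjk : j ≠ k) :
    (t3 p q j * t3 p q k) * (t3 p q j * t3 p q k) = 1 := by
  ext t
  simp only [Perm.mul_apply, t3_apply hj, t3_apply hk, Perm.one_apply]
  have e1 := hj.ab
  have e2 := hj.ac
  have e3 := hj.bc
  have e4 := hk.ac
  have e5 := hk.bc
  grind

theorem conjNormal_surj [Fintype α] (h6 : Fintype.card α ≠ 6) {p₀ p₁ p₂ p₃ : α}
    (h2 : D3 p₀ p₁ p₂) (h3 : D3 p₀ p₁ p₃) (h23 : p₂ ≠ p₃) (f : MulAut (alternatingGroup α)) :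
    ∃ σ : Perm α, MulAut.conjNormal σ = f := by
  classical
  have hpq := h2.ab
  let c : ∀ k, D3 p₀ p₁ k → alternatingGroup α := fun k hk =>
    ⟨t3 p₀ p₁ k, (isThreeCycle_t3 hk).mem_alternatingGroup⟩
  let d : ∀ k, D3 p₀ p₁ k → Perm α := fun k hk => ((f (c k hk) : alternatingGroup α) : Perm α)
  have hd3 : ∀ k hk, ∃ a b e, D3 a b e ∧ d k hk = t3 a b e := fun k hk =>
    exists_t3 (threeCycle_preserved h6 f _ (isThreeCycle_t3 hk))
  have hrel : ∀ j k (hj : D3 p₀ p₁ j) (hk : D3 p₀ p₁ k), j ≠ k →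
      ∀ t, d j hj (d k hk (d j hj (d k hk t))) = t := by
    intro j k hj hk hjk t
    have h0 : (c j hj * c k hk) * (c j hj * c k hk) = 1 := Subtype.ext (t3_rel hj hk hjk)
    have h1 := congrArg f h0
    simp only [map_mul, map_one] at h1
    have h2 := congrArg (fun x : alternatingGroup α => (x : Perm α) t) h1
    simpa using h2
  have hne1 : ∀ j k (hj : D3 p₀ p₁ j) (hk : D3 p₀ p₁ k), j ≠ k → d j hj ≠ d k hk := by
    intro j k hj hk hjk e
    have h0 : c j hj = c k hk := f.injective (Subtype.ext e)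
    have h1 : t3 p₀ p₁ j = t3 p₀ p₁ k := congrArg Subtype.val h0
    have h2 := congrArg (fun x : Perm α => x p₁) h1
    simp only [t3_apply hj, t3_apply hk, if_neg hj.ab.symm, if_neg hk.ab.symm, if_true] at h2
    exact hjk h2
  have hne2 : ∀ j k (hj : D3 p₀ p₁ j) (hk : D3 p₀ p₁ k), j ≠ k → d j hj ≠ (d k hk)⁻¹ := by
    intro j k hj hk hjk e
    have h0 : c j hj = (c k hk)⁻¹ := f.injective (Subtype.ext (by
      rw [map_inv]
      exact e))
    have h1 : t3 p₀ p₁ j = (t3 p₀ p₁ k)⁻¹ := congrArg Subtype.val h0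
    rw [t3_inv] at h1
    have h2 := congrArg (fun x : Perm α => x p₀) h1
    have hk' : D3 k p₁ p₀ := ⟨hk.bc.symm, hpq.symm, hk.ac.symm⟩
    simp only [t3_apply hj, t3_apply hk', if_true, if_neg hk.ac] at h2
    simp only [if_neg hpq] at h2
    exact hk.bc (by simpa using h2)
  obtain ⟨a₂, b₂, e₂, d₂, he₂⟩ := hd3 p₂ h2
  obtain ⟨a₃, b₃, e₃, d₃, he₃⟩ := hd3 p₃ h3
  have hrel23 := hrel p₂ p₃ h2 h3 h23
  have hne123 := hne1 p₂ p₃ h2 h3 h23
  have hne223 := hne2 p₂ p₃ h2 h3 h23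
  rw [he₂, he₃] at hrel23 hne123 hne223
  obtain ⟨a, b, r, s, hr, hs, hrs, e₁', e₂'⟩ := lemC d₂ d₃ hrel23 hne123 hne223
  rw [e₁'] at he₂
  rw [e₂'] at he₃
  have hall : ∀ k (hk : D3 p₀ p₁ k), ∃ g, D3 a b g ∧ d k hk = t3 a b g := by
    intro k hk
    by_cases hk2 : k = p₂
    · subst hk2
      exact ⟨r, hr, he₂⟩
    by_cases hk3 : k = p₃
    · subst hk3
      exact ⟨s, hs, he₃⟩
    obtain ⟨u, v, w, huvw, he⟩ := hd3 k hk
    have rel2 := hrel p₂ k h2 hk (Ne.symm hk2)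
    have rel3 := hrel p₃ k h3 hk (Ne.symm hk3)
    have n1 := hne1 p₂ k h2 hk (Ne.symm hk2)
    have n2 := hne2 p₂ k h2 hk (Ne.symm hk2)
    rw [he₂, he] at rel2 n1 n2
    rw [he₃, he] at rel3
    obtain ⟨g, hg, hgg⟩ := lemD hr hs hrs huvw rel2 rel3 n1 n2
    exact ⟨g, hg, he.trans hgg⟩
  choose g hg hgg using hall
  let σ' : α → α := fun x => if h : D3 p₀ p₁ x then g x h else if x = p₀ then a else b
  have hσ0 : σ' p₀ = a := by
    have : ¬ D3 p₀ p₁ p₀ := fun h => h.ac rfl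
    simp [σ', this]
  have hσ1 : σ' p₁ = b := by
    have : ¬ D3 p₀ p₁ p₁ := fun h => h.bc rfl
    simp [σ', this, hpq.symm]
  have hσk : ∀ k (hk : D3 p₀ p₁ k), σ' k = g k hk := by
    intro k hk
    simp [σ', hk]
  have hcases : ∀ x, x = p₀ ∨ x = p₁ ∨ D3 p₀ p₁ x := by
    intro x
    by_cases h0 : x = p₀
    · exact Or.inl h0
    by_cases h1 : x = p₁
    · exact Or.inr (Or.inl h1)
    exact Or.inr (Or.inr ⟨hpq, fun e => h1 e.symm, fun e => h0 e.symm⟩)
  have hinj : Function.Injective σ' := by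
    intro x y hxy
    have hab := hr.ab
    rcases hcases x with rfl | rfl | hx <;> rcases hcases y with rfl | rfl | hy
    · rfl
    · rw [hσ0, hσ1] at hxy; exact absurd hxy hab
    · rw [hσ0, hσk y hy] at hxy; exact absurd hxy (hg y hy).ac
    · rw [hσ0, hσ1] at hxy; exact absurd hxy.symm hab
    · rfl
    · rw [hσ1, hσk y hy] at hxy; exact absurd hxy (hg y hy).bc
    · rw [hσ0, hσk x hx] at hxy; exact absurd hxy.symm (hg x hx).ac
    · rw [hσ1, hσk x hx] at hxy; exact absurd hxy.symm (hg x hx).bc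
    · rw [hσk x hx, hσk y hy] at hxy
      by_contra hne
      apply hne1 x y hx hy hne
      rw [hgg x hx, hgg y hy, hxy]
  let σ : Perm α := Equiv.ofBijective σ' (Finite.injective_iff_bijective.1 hinj)
  have hσ : ∀ x, σ x = σ' x := fun x => rfl
  refine ⟨σ, ?_⟩
  have key : ∀ k (hk : D3 p₀ p₁ k), MulAut.conjNormal σ (c k hk) = f (c k hk) := by
    intro k hk
    apply Subtype.ext
    rw [MulAut.conjNormal_apply]
    show σ * t3 p₀ p₁ k * σ⁻¹ = d k hk
    rw [t3_conj, hgg k hk, hσ, hσ, hσ, hσ0, hσ1, hσk k hk]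
  let E : Subgroup (alternatingGroup α) :=
    MonoidHom.eqLocus (MulAut.conjNormal σ).toMonoidHom f.toMonoidHom
  let H : Subgroup (Perm α) := E.map (alternatingGroup α).subtype
  have hH : ∀ k, D3 p₀ p₁ k → t3 p₀ p₁ k ∈ H := by
    intro k hk
    exact ⟨c k hk, key k hk, rfl⟩
  have hall3 := gen_t3 H hpq hH
  have hle : alternatingGroup α ≤ H := by
    rw [← closure_three_cycles_eq_alternating, Subgroup.closure_le]
    intro x hx
    obtain ⟨u, v, w, huvw, rfl⟩ := exists_t3 hx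
    exact hall3 u v w huvw
  ext x
  obtain ⟨y, hy, hyx⟩ := hle x.2
  have : y = x := Subtype.ext hyx
  subst this
  have h1 : MulAut.conjNormal σ y = f y := hy
  rw [h1]

theorem conjNormal_inj [Fintype α] {p₀ p₁ p₂ p₃ : α}
    (h2 : D3 p₀ p₁ p₂) (h3 : D3 p₀ p₁ p₃) (h23 : p₂ ≠ p₃) :
    Function.Injective (MulAut.conjNormal : Perm α →* MulAut (alternatingGroup α)) := by
  classical
  rw [injective_iff_map_eq_one]
  intro σ hσ
  by_contra hne
  obtain ⟨x, hx⟩ : ∃ x, σ x ≠ x := by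
    by_contra hcon
    push_neg at hcon
    exact hne (Equiv.ext hcon)
  have hc4 : ({p₀, p₁, p₂, p₃} : Finset α).card = 4 := by
    rw [Finset.card_insert_of_notMem, Finset.card_insert_of_notMem, Finset.card_insert_of_notMem,
      Finset.card_singleton]
    · simpa using h23
    · simp [h2.bc, h3.bc]
    · simp [h2.ab, h2.ac, h3.ac]
  have hc2 : ({x, σ x} : Finset α).card ≤ 2 := Finset.card_le_two
  have hc3 := Finset.le_card_sdiff ({x, σ x} : Finset α) ({p₀, p₁, p₂, p₃} : Finset α)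
  obtain ⟨y, hy, z, hz, hyz⟩ := Finset.one_lt_card.1 (show 1 < (({p₀, p₁, p₂, p₃} : Finset α) \ {x, σ x}).card by omega)
  simp only [Finset.mem_sdiff, Finset.mem_insert, Finset.mem_singleton, not_or] at hy hz
  obtain ⟨-, hy1, hy2⟩ := hy
  obtain ⟨-, hz1, hz2⟩ := hz
  have hD : D3 x y z := ⟨Ne.symm hy1, hyz, Ne.symm hz1⟩
  have h0 : (MulAut.conjNormal σ) (⟨t3 x y z, (isThreeCycle_t3 hD).mem_alternatingGroup⟩ : alternatingGroup α) =
      ⟨t3 x y z, (isThreeCycle_t3 hD).mem_alternatingGroup⟩ := by rw [hσ]; rfl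
  have h1 := congrArg Subtype.val h0
  rw [MulAut.conjNormal_apply] at h1
  have h1' : σ * t3 x y z * σ⁻¹ = t3 x y z := h1
  rw [t3_conj] at h1'
  have h2' : t3 (σ x) (σ y) (σ z) (σ x) = t3 x y z (σ x) := congrArg (fun g : Perm α => g (σ x)) h1'
  rw [t3_a (hD.map σ), t3_o hD hx (Ne.symm hy2) (Ne.symm hz2)] at h2'
  exact hy1 (σ.injective h2')

end Cfsg.Agent.H09
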