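import Mathlib
import Cfsg.Agent.Lib.H13.CoprimeGen
import Cfsg.Agent.Lib.H01.Solv2
import Cfsg.Agent.Lib.H01.Fitting
import Cfsg.Agent.Lib.H09.WMain

/-! An elementary abelian `2`-subgroup of a solvable group with trivial `O_2`
has a hyperplane centralising, and a complement inverting, an element of odd order. -/

set_option autoImplicit false

namespace Cfsg.Agent.H09

open Cfsg

theorem fitting_coprime_two {X : Type*} [Group X] [Finite X] (h2 : Cfsg.pCore 2 X = ⊥) :
    (Nat.card (Cfsg.fittingSubgroup X)).Coprime 2 := by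
  classical
  haveI : Fact (Nat.Prime 2) := ⟨Nat.prime_two⟩
  haveI hnil : Group.IsNilpotent (Cfsg.fittingSubgroup X) := Cfsg.Agent.H01.fitting_nilpotent
  haveI hFn : (Cfsg.fittingSubgroup X).Normal := Cfsg.Agent.H01.fitting_normal
  obtain ⟨P⟩ : Nonempty (Sylow 2 (Cfsg.fittingSubgroup X)) := inferInstance
  have hPn : (P : Subgroup (Cfsg.fittingSubgroup X)).Normal := inferInstance
  have hchar : (P : Subgroup (Cfsg.fittingSubgroup X)).Characteristic :=
    Sylow.characteristic_of_normal P hPn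
  have hmapn : ((P : Subgroup (Cfsg.fittingSubgroup X)).map (Cfsg.fittingSubgroup X).subtype).Normal :=
    inferInstance
  have hmapp : IsPGroup 2 ((P : Subgroup (Cfsg.fittingSubgroup X)).map (Cfsg.fittingSubgroup X).subtype) :=
    P.isPGroup'.map _
  have hle := Cfsg.Agent.H01.le_pCore hmapn hmapp
  rw [h2, le_bot_iff, Subgroup.map_eq_bot_iff_of_injective _ (Subgroup.subtype_injective _)] at hle
  have hidx := P.not_dvd_index
  rw [hle, Subgroup.index_bot] at hidx
  exact ((Nat.Prime.coprime_iff_not_dvd Nat.prime_two).2 hidx).symm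

theorem exists_hyperplane_inverted {X : Type*} [Group X] [Finite X] [Group.IsSolvable X]
    (h2 : Cfsg.pCore 2 X = ⊥) {A : Subgroup X} (hA2 : ∀ x ∈ A, x * x = 1) (hA1 : A ≠ ⊥) :
    ∃ (c : X) (B : Subgroup X) (y : X), c ∈ A ∧ B ≤ A ∧ (∀ g ∈ A, g ∈ B ∨ c * g ∈ B) ∧ y ≠ 1 ∧
      Odd (orderOf y) ∧ (∀ b ∈ B, b * y = y * b) ∧ c * y * c⁻¹ = y⁻¹ := by
  classical
  haveI : Fact (Nat.Prime 2) := ⟨Nat.prime_two⟩
  set F := Cfsg.fittingSubgroup X with hF
  have hFn : F.Normal := Cfsg.Agent.H01.fitting_normal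
  have hFodd : (Nat.card F).Coprime 2 := fitting_coprime_two h2
  have hinvA : ∀ x ∈ A, x⁻¹ = x := fun x hx => inv_eq_of_mul_eq_one_left (hA2 x hx)
  have hAab : ∀ x ∈ A, ∀ y ∈ A, x * y = y * x := by
    intro x hx y hy
    have h1 := hinvA _ (A.mul_mem hx hy)
    rw [mul_inv_rev, hinvA x hx, hinvA y hy] at h1
    exact h1.symm
  have hFo : ∀ z ∈ F, Odd (orderOf z) := by
    intro z hz
    have h1 : orderOf z ∣ Nat.card F := by
      have := orderOf_dvd_natCard (⟨z, hz⟩ : F)
      rwa [Subgroup.orderOf_mk] at this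
    exact Odd.of_dvd_nat (Nat.Coprime.odd_of_right hFodd) h1
  have hfaith : ∀ c ∈ A, c ≠ 1 → ∃ y ∈ F, c * y ≠ y * c := by
    intro c hc hc1
    by_contra hcon
    push Not at hcon
    have h1 : c ∈ Subgroup.centralizer (F : Set X) :=
      Subgroup.mem_centralizer_iff.2 (fun y hy => (hcon y hy).symm)
    have h2' : c ∈ F := Cfsg.Agent.H01.centralizer_fitting_le h1
    have h3 := hFo c h2'
    have h4 : c ^ 2 = 1 := by rw [pow_two]; exact hA2 c hc
    have h5 : orderOf c ∣ 2 := orderOf_dvd_of_pow_eq_one h4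
    have h6 : orderOf c = 1 := by
      rcases (Nat.dvd_prime Nat.prime_two).1 h5 with h | h
      · exact h
      · rw [h] at h3
        exact absurd h3 (by decide)
    exact hc1 (orderOf_eq_one_iff.1 h6)
  let p : Subgroup X → Prop := fun B => B ≤ A ∧ ∃ y ∈ F, y ∈ Subgroup.centralizer (B : Set X) ∧
    y ∉ Subgroup.centralizer (A : Set X)
  obtain ⟨c₀, hc₀⟩ := (Subgroup.ne_bot_iff_exists_ne_one.1 hA1)
  have hbot : p ⊥ := by
    obtain ⟨y, hy, hy1⟩ := hfaith c₀ c₀.2 (fun h => hc₀ (Subtype.ext h))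
    refine ⟨bot_le, y, hy, ?_, ?_⟩
    · refine Subgroup.mem_centralizer_iff.2 ?_
      intro h hh
      have : h = 1 := by simpa using hh
      subst this
      simp
    · intro h
      exact hy1 (Subgroup.mem_centralizer_iff.1 h _ c₀.2)
  obtain ⟨B, -, hBmax⟩ := Finite.exists_le_maximal hbot
  obtain ⟨hBA, y, hyF, hyB, hyA⟩ := hBmax.1
  obtain ⟨c, hcA, hcy⟩ : ∃ c ∈ A, c * y ≠ y * c := by
    by_contra hcon
    push Not at hcon
    exact hyA (Subgroup.mem_centralizer_iff.2 hcon)
  set R : Subgroup X := F ⊓ Subgroup.centralizer (B : Set X) with hR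
  have hyR : y ∈ R := ⟨hyF, hyB⟩
  have hRA : ∀ g ∈ A, g ∈ Subgroup.normalizer (R : Set X) := by
    intro g hg
    refine mem_normalizer_of_conj_le ?_
    intro r hr
    refine ⟨hFn.conj_mem r hr.1 g, Subgroup.mem_centralizer_iff.2 ?_⟩
    intro b hb
    have h1 := Subgroup.mem_centralizer_iff.1 hr.2 b hb
    have h2' := hAab b (hBA hb) g hg
    have h3 : b * g⁻¹ = g⁻¹ * b := by
      rw [hinvA g hg]
      exact h2'
    calc b * (g * r * g⁻¹) = (b * g) * r * g⁻¹ := by group
      _ = g * (b * r) * g⁻¹ := by rw [h2']; group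
      _ = g * r * (b * g⁻¹) := by rw [h1]; group
      _ = g * r * (g⁻¹ * b) := by rw [h3]
      _ = (g * r * g⁻¹) * b := by group
  have key : ∀ x ∈ A, x ∉ B → ∀ z ∈ R, x * z = z * x → z ∈ Subgroup.centralizer (A : Set X) := by
    intro x hx hxB z hz hxz
    by_contra hzA
    have hle : B ⊔ Subgroup.zpowers x ≤ Subgroup.centralizer ({z} : Set X) := by
      refine sup_le ?_ ?_
      · intro b hb
        rw [Subgroup.mem_centralizer_iff]
        intro w hw
        rw [Set.mem_singleton_iff] at hw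
        subst hw
        exact (Subgroup.mem_centralizer_iff.1 hz.2 b hb).symm
      · rw [Subgroup.zpowers_le, Subgroup.mem_centralizer_iff]
        intro w hw
        rw [Set.mem_singleton_iff] at hw
        subst hw
        exact hxz.symm
    have hp : p (B ⊔ Subgroup.zpowers x) := by
      refine ⟨sup_le hBA ((Subgroup.zpowers_le).2 hx), z, hz.1, ?_, hzA⟩
      rw [Subgroup.mem_centralizer_iff]
      intro h hh
      have := Subgroup.mem_centralizer_iff.1 (hle hh) z rfl
      exact this.symm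
    have h1 := hBmax.2 hp le_sup_left
    exact hxB (h1 (Subgroup.mem_sup_right (Subgroup.mem_zpowers x)))
  have hcB : c ∉ B := by
    intro h
    exact hcy (Subgroup.mem_centralizer_iff.1 hyB c h)
  have hsplit : ∀ g ∈ A, g ∈ B ∨ c * g ∈ B := by
    intro g hg
    by_contra hcon
    push Not at hcon
    obtain ⟨hgB, hcgB⟩ := hcon
    have hRcop : (Nat.card R).Coprime 2 :=
      Nat.Coprime.coprime_dvd_left (Subgroup.card_dvd_of_le inf_le_left) hFodd
    have hfix := Cfsg.Agent.H13.fixGen_eq (p := 2) (R := R) hRcop (a := c) (b := g)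
      (hAab c hcA g hg) (by rw [pow_two]; exact hA2 c hcA) (by rw [pow_two]; exact hA2 g hg)
      (hRA c hcA) (hRA g hg)
    have hRC : R ≤ Subgroup.centralizer (A : Set X) := by
      rw [← hfix]
      refine iSup_le ?_
      rintro ⟨x, hx⟩
      have hxA : x ∈ A ∧ x ∉ B := by
        rcases hx with rfl | ⟨i, hi, rfl⟩
        · exact ⟨hg, hgB⟩
        · interval_cases i
          · simpa using ⟨hcA, hcB⟩
          · simpa using ⟨A.mul_mem hcA hg, hcgB⟩
      rintro z ⟨hzR, hzx⟩
      refine key x hxA.1 hxA.2 z hzR ?_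
      exact (Subgroup.mem_centralizer_iff.1 hzx x rfl)
    exact hyA (hRC hyR)
  have hcinv := hinvA c hcA
  refine ⟨c, B, y⁻¹ * (c * y * c⁻¹), hcA, hBA, hsplit, ?_, ?_, ?_, ?_⟩
  · intro h
    apply hcy
    rw [inv_mul_eq_one] at h
    calc c * y = (c * y * c⁻¹) * c := by group
      _ = y * c := by rw [← h]
  · exact hFo _ (F.mul_mem (F.inv_mem hyF) (hFn.conj_mem y hyF c))
  · intro b hb
    have hmem : y⁻¹ * (c * y * c⁻¹) ∈ R := by
      have hcN := hRA c hcA
      exact R.mul_mem (R.inv_mem hyR) ((Subgroup.mem_normalizer_iff.1 hcN y).1 hyR)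
    exact Subgroup.mem_centralizer_iff.1 hmem.2 b hb
  · rw [hcinv]
    have hc2 := hA2 c hcA
    calc c * (y⁻¹ * (c * y * c)) * c = c * y⁻¹ * c * y * (c * c) := by group
      _ = c * y⁻¹ * c * y := by rw [hc2, mul_one]
      _ = (y⁻¹ * (c * y * c))⁻¹ := by
        rw [mul_inv_rev, mul_inv_rev, mul_inv_rev, inv_inv, hcinv]
        group

end Cfsg.Agent.H09
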