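import Cfsg.Agent.Lib.H09.M11Words

/-! Automorphisms of the stabiliser of a dodecad and a point. -/

set_option autoImplicit false
set_option linter.unusedSectionVars false
set_option linter.unusedVariables false
set_option linter.style.haveILetI false
set_option maxRecDepth 100000

namespace Cfsg.Agent.H09.M11

open Cfsg Cfsg.Agent.H27.Golay Cfsg.Agent.H07.Orb
open scoped Pointwise

theorem x0_ok : permOK x0Inv = true := x0Inv_ok'
theorem β₀_ok : permOK β₀ = true := isM24_permOK β₀_M24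

/-- The two generators of the group. -/
noncomputable def aG : HD1 := ⟨P x0Inv, hHD1 _ x0Inv_ok x0_D1⟩
noncomputable def bG : HD1 := ⟨P β₀, hHD1 _ β₀_M24 β₀_D1⟩

theorem coe_ev (a b : HD1) (w : List Bool) : ((ev a b w : HD1) : Equiv.Perm GolayPt) = ev a.1 b.1 w :=
  map_ev HD1.subtype a b w

/-- The generators generate. -/
theorem closure_gens {g : Equiv.Perm GolayPt} (hg : g ∈ HD1) :
    g ∈ Subgroup.closure ({P x0Inv, P β₀} : Set (Equiv.Perm GolayPt)) := by
  set K := Subgroup.closure ({P x0Inv, P β₀} : Set (Equiv.Perm GolayPt)) with hK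
  have hev : ∀ w, ev (P x0Inv) (P β₀) w ∈ K := by
    intro w
    induction w with
    | nil => exact K.one_mem
    | cons c w ih =>
      cases c
      · exact K.mul_mem (Subgroup.subset_closure (by simp)) ih
      · exact K.mul_mem (Subgroup.subset_closure (by simp)) ih
  have hT : ∀ t ∈ allT, P t ∈ K := by
    intro t ht
    obtain ⟨w, hw⟩ := genChk_spec genT_ok t ht
    have h1 := (pEq_iff (allL_spec allT_ok t ht) (evc_ok x0_ok β₀_ok w)).1 hw
    rw [h1, P_evc x0_ok β₀_ok]
    exact hev w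
  have hok : ∀ t ∈ allT, permOK t = true := allL_spec allT_ok
  obtain ⟨π, hπ, rfl, -⟩ := exists_code_M11 hg
  rw [M11L, List.mem_flatMap] at hπ
  obtain ⟨a, ha, hπ⟩ := hπ
  rw [List.mem_flatMap] at hπ
  obtain ⟨b, hb, hπ⟩ := hπ
  rw [List.mem_flatMap] at hπ
  obtain ⟨c, hc, hπ⟩ := hπ
  rw [List.mem_map] at hπ
  obtain ⟨e, he, rfl⟩ := hπ
  have ha' : a ∈ allT := by simp [allT, ha]
  have hb' : b ∈ allT := by simp [allT, hb]
  have hc' : c ∈ allT := by simp [allT, hc]
  have he' : e ∈ allT := by simp [allT, he]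
  have oka := hok a ha'
  have okb := hok b hb'
  have okc := hok c hc'
  have oke := hok e he'
  rw [P_pcomp oka (permOK_pcomp okb (permOK_pcomp okc oke)), P_pcomp okb (permOK_pcomp okc oke),
    P_pcomp okc oke]
  exact K.mul_mem (hT a ha') (K.mul_mem (hT b hb') (K.mul_mem (hT c hc') (hT e he')))

/-- Two homomorphisms agreeing on the generators agree. -/
theorem hom_ext {X : Type*} [Group X] {f f' : HD1 →* X} (h1 : f aG = f' aG) (h2 : f bG = f' bG) :
    f = f' := by
  let E := MonoidHom.eqLocus f f'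
  have hle : Subgroup.closure ({P x0Inv, P β₀} : Set (Equiv.Perm GolayPt)) ≤ E.map HD1.subtype := by
    rw [Subgroup.closure_le]
    rintro x (rfl | rfl)
    · exact ⟨aG, h1, rfl⟩
    · exact ⟨bG, h2, rfl⟩
  ext x
  obtain ⟨y, hy, hyx⟩ := hle (closure_gens x.2)
  have : y = x := Subtype.ext hyx
  rw [← this]
  exact hy

/-- Every automorphism is inner. -/
theorem inner_HD1 (φ : MulAut HD1) : ∃ g : HD1, ∀ x, φ x = g * x * g⁻¹ := by
  have ha2 : aG * aG = 1 := by
    apply Subtype.ext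
    show P x0Inv * P x0Inv = 1
    rw [← P_pcomp x0_ok x0_ok]
    have := (pEq_iff (permOK_pcomp x0_ok x0_ok) (isM24_permOK idCode_spec)).1 x0_sq
    rw [this, P_idCode]
  have ha1 : aG ≠ 1 := by
    intro h
    have h2 : P x0Inv = 1 := congrArg Subtype.val h
    rw [← P_idCode] at h2
    have h3 := (pEq_iff x0_ok (isM24_permOK idCode_spec)).2 h2
    rw [x0_ne] at h3
    cases h3
  -- the image of the involution
  have h3 : ((φ aG : HD1) : Equiv.Perm GolayPt) * (φ aG : HD1) = 1 := by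
    have := congrArg φ ha2
    rw [map_mul, map_one] at this
    exact congrArg Subtype.val this
  have h4 : ((φ aG : HD1) : Equiv.Perm GolayPt) ≠ 1 := by
    intro h
    apply ha1
    apply φ.injective
    rw [map_one]
    exact Subtype.ext h
  obtain ⟨τ, hτ, hτe⟩ := exists_conj_x0 (φ aG).2 h3 h4
  let T : HD1 := ⟨τ, hτ⟩
  have hT : φ aG = T * aG * T⁻¹ := Subtype.ext hτe
  let ψ : HD1 →* HD1 := (MulAut.conj T⁻¹).toMonoidHom.comp φ.toMonoidHom
  have hψ : ∀ x, ψ x = T⁻¹ * φ x * T := by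
    intro x
    simp [ψ, MulAut.conj_apply]
  have hψa : ψ aG = aG := by
    rw [hψ, hT]
    group
  obtain ⟨π, hπ, hπe, hok⟩ := exists_code_M11 (ψ bG).2
  have hb1 : ψ bG = ⟨P π, hπe ▸ (ψ bG).2⟩ := Subtype.ext hπe.symm
  -- the relators
  have hrel : ∀ w ∈ rels, ev aG bG w = 1 := by
    intro w hw
    have h5 : pEq (evc x0Inv β₀ w) idCode = true := by
      have := condB_β₀
      rw [condB, List.all_eq_true] at this
      exact this w hw
    have h6 := (pEq_iff (evc_ok x0_ok β₀_ok w) (isM24_permOK idCode_spec)).1 h5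
    rw [P_evc x0_ok β₀_ok, P_idCode] at h6
    apply Subtype.ext
    rw [coe_ev]
    exact h6
  have hcond : condB π = true := by
    rw [condB, List.all_eq_true]
    intro w hw
    refine (pEq_iff (evc_ok x0_ok hok w) (isM24_permOK idCode_spec)).2 ?_
    rw [P_evc x0_ok hok, P_idCode, hπe]
    have h7 := map_ev ψ aG bG w
    rw [hrel w hw, map_one, hψa] at h7
    have h8 := congrArg Subtype.val h7
    rw [coe_ev] at h8
    exact h8.symm
  have h9 := allL_spec check_main π hπ
  rw [hcond, Bool.not_true, Bool.false_or, List.any_eq_true] at h9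
  obtain ⟨u, hu, huπ⟩ := h9
  obtain ⟨o1, o2, o3⟩ := TG_ok hu
  have okU := isM24_permOK o1
  let U : HD1 := ⟨P (TG u), hHD1 _ o1 o2⟩
  have hb2 : ψ bG = U * bG * U⁻¹ := by
    apply Subtype.ext
    show ((ψ bG : HD1) : Equiv.Perm GolayPt) = P (TG u) * P β₀ * (P (TG u))⁻¹
    rw [← hπe]
    have := (pEq_iff hok (permOK_pcomp (permOK_pcomp okU β₀_ok) (permOK_pinv okU))).1 huπ
    rw [this, P_pcomp (permOK_pcomp okU β₀_ok) (permOK_pinv okU), P_pcomp okU β₀_ok, P_pinv okU]
  have ha3 : U * aG = aG * U := by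
    apply Subtype.ext
    show P (TG u) * P x0Inv = P x0Inv * P (TG u)
    have h := (pEq_iff (permOK_pcomp okU x0_ok) (permOK_pcomp x0_ok okU)).mp o3
    rwa [P_pcomp okU x0_ok, P_pcomp x0_ok okU] at h
  have ha4 : ψ aG = U * aG * U⁻¹ := by
    rw [hψa, ha3]
    group
  have hhom : ψ = (MulAut.conj U).toMonoidHom := by
    apply hom_ext
    · rw [ha4]
      simp [MulAut.conj_apply]
    · rw [hb2]
      simp [MulAut.conj_apply]
  refine ⟨T * U, fun x => ?_⟩
  have h10 : ψ x = U * x * U⁻¹ := by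
    rw [hhom]
    simp [MulAut.conj_apply]
  rw [hψ] at h10
  calc φ x = T * (T⁻¹ * φ x * T) * T⁻¹ := by group
    _ = T * (U * x * U⁻¹) * T⁻¹ := by rw [h10]
    _ = T * U * x * (T * U)⁻¹ := by group

end Cfsg.Agent.H09.M11
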