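import Cfsg.Agent.Lib.H07.GolayM11Gl

/-! Words in two generators of the stabiliser of a dodecad and a point. -/

set_option autoImplicit false
set_option linter.unusedSectionVars false
set_option linter.unusedVariables false
set_option linter.style.haveILetI false
set_option maxRecDepth 1000000

namespace Cfsg.Agent.H09.M11

open Cfsg Cfsg.Agent.H27.Golay Cfsg.Agent.H07.Orb

/-- Evaluation of a word in two elements. -/
def ev {G : Type*} [Group G] (a b : G) : List Bool → G
  | [] => 1
  | true :: w => a * ev a b w
  | false :: w => b * ev a b w

theorem map_ev {G H : Type*} [Group G] [Group H] (f : G →* H) (a b : G) (w : List Bool) :
    f (ev a b w) = ev (f a) (f b) w := by
  induction w with
  | nil => simp [ev]
  | cons c w ih =>
    cases c <;> simp [ev, ih]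

/-- Evaluation on codes. -/
def evc (α β : ℕ) : List Bool → ℕ
  | [] => idCode
  | true :: w => pcomp α (evc α β w)
  | false :: w => pcomp β (evc α β w)

theorem evc_ok {α β : ℕ} (hα : permOK α = true) (hβ : permOK β = true) (w : List Bool) :
    permOK (evc α β w) = true := by
  induction w with
  | nil => exact isM24_permOK idCode_spec
  | cons c w ih =>
    cases c
    · exact permOK_pcomp hβ ih
    · exact permOK_pcomp hα ih

theorem P_evc {α β : ℕ} (hα : permOK α = true) (hβ : permOK β = true) (w : List Bool) :
    P (evc α β w) = ev (P α) (P β) w := by
  induction w with
  | nil => exact P_idCode
  | cons c w ih =>
    cases c
    · show P (pcomp β (evc α β w)) = _
      rw [P_pcomp hβ (evc_ok hα hβ w), ih]
      rfl
    · show P (pcomp α (evc α β w)) = _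
      rw [P_pcomp hα (evc_ok hα hβ w), ih]
      rfl

/-- The second generator. -/
def β₀ : ℕ := 959908238811355417349524263389904940

/-- Relators. -/
def rels : List (List Bool) := [[false, false, false, false],
  [true, false, true, false, true, false, true, false, true, false, true, false, true, false, true, false, true, false, true, false, true, false],
  [true, false, false, true, false, false, true, false, false, true, false, false, true, false, false, true, false, false],
  [true, false, true, false, false, true, false, true, false, false, true, false, true, false, false, true, false, true, false, false, true, false, true, false, false, true, false, true, false, false],
  [true, false, true, false, true, false, false, true, false, true, false, true, false, false, true, false, true, false, true, false, false, true, false, true, false, true, false, false, true, false, true, false, true, false, false, true, false, true, false, true, false, false, true, false, true, false, true, false, false, true, false, true, false, true, false, false, true, false, true, false, true, false, false, true, false, true, false, true, false, false, true, false, true, false, true, false, false],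
  [true, false, true, false, false, true, false, false, true, false, true, false, false, true, false, false, true, false, true, false, false, true, false, false, true, false, true, false, false, true, false, false, true, false, true, false, false, true, false, false, true, false, true, false, false, true, false, false, true, false, true, false, false, true, false, false, true, false, true, false, false, true, false, false],
  [true, false, true, false, true, false, false, false, true, false, true, false, false, false, true, false, false, false, true, false, true, false, true, false, false, false, true, false, true, false, false, false, true, false, false, false, true, false, true, false, true, false, false, false, true, false, true, false, false, false, true, false, false, false]]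

/-- Words for the transversal elements. -/
def genT : List (List Bool) := [[],
  [true, false, true, false, true, false, true, false, true, false, false, false, true, false, false, true, false, false, true],
  [true, false, false, true, false, true, false, true, false, true, false, false, false, true, false, false, true, false, true, false, true, false, true],
  [true, false, true, false, false, true, false, true, false, true, false, false, true, false],
  [false, false, true, false, false, true, false, true, false, true, false, false, true],
  [true, false, true, false, true, false, true, false, true, false, false, false, true, false, true, false, true, false, true],
  [false, true, false, true, false, false, true, false, false, true, false, true],
  [false, false, true, false, true, false, false, true, false, false, false, true, false, false, true, false, true],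
  [true, false, false, false, true, false, false, true, false, false, false, true, false, true, false, true],
  [true, false, false, false, true, false, false, true, false, true, false, true, false, false, false, true, false, true, false, true, false, false],
  [true, false, true, false, true, false, false, true, false, true, false, true, false, true, false, true, false, false],
  [],
  [false, false, true, false, false, true, false, false, true, false, true, false, false, true, false, false, false],
  [true, false, false, true, false, true, false, false, false, true, false, false, true, false, true, false, true, false, false],
  [false, false, false, true, false, false, false, true, false, true, false, false, true, false, true, false, false, true, false, true, false, false, false, true, false],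
  [true, false, true, false, true, false, true, false, false, true, false, false, false, true, false, false, true, false, false, false],
  [true, false, false, false, true, false, false, false, true, false, true, false, false, true, false, true, false, false, false],
  [true, false, false, false, true, false, true, false, false, true, false, true, false, true, false, false, true, false, true, false, false],
  [true, false, false, false, true, false, false, false, true, false, false, true, false, false, true, false, true, false],
  [true, false, false, true, false, true, false, true, false, true, false, false, false, true, false],
  [true, false, true, false, false, true, false, true, false, false, false, true, false, false],
  [],
  [false, true, false, true, false, false, true, false, true, false, false, false, true, false, true],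
  [false, false, false, true, false, true, false, true, false, false, true, false, false, true, false, true],
  [false, true, false, true, false, false, true, false, false, true, false, true, false, false, true, false, true],
  [false, false, false, true, false, true, false, true, false, true, false, false, true, false, true, false, true, false, true, false, false, false],
  [false, false, false, true, false, true, false, true, false, true, false, false, true, false, true],
  [false, true, false, true, false, false, false, true, false, true, false, false, true, false, false, false, true],
  [true, false, true, false, true, false, false, true, false, true, false, false, false, true, false, true],
  [false, true, false, true, false, false, true, false, true, false, true, false, true, false, false, true, false, true],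
  [],
  [false, false, false, true, false, true, false, true, false, false, false, true, false, false, true, false, true],
  [false, true, false, false, false, true, false, false, true, false, true, false, true, false, true, false, false, true, false, true],
  [false, false, false, true, false, true, false, true, false, false, false, true, false, false, true, false],
  [false, true, false, false, false, true, false, false, true, false, true, false, true, false, true, false, false, true, false],
  [false, true, false, true, false, false, true, false, true, false, true, false, false, true, false, false, true, false],
  [true],
  [false, true, false, true, false, false, true, false, true, false, true, false, false, true, false, false, true, false, true]]

/-- Transversal elements. -/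
def allT : List ℕ := TD1 ++ TD2 ++ TD3 ++ TD4

/-- Checking the words. -/
def genChk : List ℕ → List (List Bool) → Bool
  | [], _ => true
  | t :: L, w :: W => pEq t (evc x0Inv β₀ w) && genChk L W
  | _ :: _, [] => false

theorem genChk_spec : ∀ {L : List ℕ} {W : List (List Bool)}, genChk L W = true →
    ∀ t ∈ L, ∃ w, pEq t (evc x0Inv β₀ w) = true := by
  intro L
  induction L with
  | nil => simp
  | cons t L ih =>
    intro W h s hs
    cases W with
    | nil => simp [genChk] at h
    | cons w W =>
      simp only [genChk, Bool.and_eq_true] at h
      rcases List.mem_cons.1 hs with rfl | hs
      · exact ⟨w, h.1⟩
      · exact ih h.2 s hs

theorem genT_ok : genChk allT genT = true := by decide +kernel

theorem allT_ok : allL permOK allT = true := by decide +kernel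

theorem β₀_M24 : isM24 β₀ = true := by decide +kernel
theorem β₀_D1 : tD1 β₀ = true := by decide +kernel
theorem x0_D1 : tD1 x0Inv = true := by decide +kernel
theorem x0_sq : pEq (pcomp x0Inv x0Inv) idCode = true := by decide +kernel
theorem x0_ne : pEq x0Inv idCode = false := by decide +kernel

/-- The relators hold. -/
def condB (π : ℕ) : Bool := rels.all (fun w => pEq (evc x0Inv π w) idCode)

theorem condB_β₀ : condB β₀ = true := by decide +kernel

/-- The main check. -/
theorem check_main :
    allL (fun π => !condB π || GLc.any (fun u => pEq π (pcomp (pcomp (TG u) β₀) (pinv (TG u))))) M11L = true := by
  decide +kernel

end Cfsg.Agent.H09.M11
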