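import Cfsg.Agent.Lib.H09.Ord4
import Cfsg.Agent.S0073

/-!
Sieve for the orders of simple groups up to 1092.
-/

set_option autoImplicit false

namespace Cfsg.Agent.H09.Ord

open Cfsg

/-- primes used -/
def primeT : List ℕ := [2, 3, 5, 7, 11, 13, 17, 19, 23, 29, 31, 37, 41, 43, 47, 53, 59, 61, 67, 71, 73, 79, 83, 89]

theorem primeT_prime : ∀ p ∈ primeT, p.Prime := by
  intro p hp
  simp only [primeT, List.mem_cons, List.not_mem_nil, or_false] at hp
  rcases hp with rfl | rfl | rfl | rfl | rfl | rfl | rfl | rfl | rfl | rfl | rfl | rfl | rfl | rfl | rfl | rfl | rfl | rfl | rfl | rfl | rfl | rfl | rfl | rfl <;> norm_num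

/-- Orders excluded by one Sylow number -/
def killT : List (ℕ × ℕ × ℕ) := [(84,7,1), (120,2,3), (132,11,1), (156,13,1), (180,5,1), (204,17,1), (228,19,1), (240,2,4), (252,7,1), (264,11,1), (276,23,1), (280,5,1), (300,5,2), (312,13,1), (336,7,1), (348,29,1), (372,31,1), (396,11,1), (408,17,1), (444,37,1), (456,19,1), (468,13,1), (480,2,5), (492,41,1), (516,43,1), (528,11,1), (540,5,1), (552,23,1), (560,2,4), (564,47,1), (588,7,2), (600,5,2), (616,11,1), (624,13,1), (636,53,1), (672,7,1), (684,19,1), (696,29,1), (708,59,1), (728,7,1), (732,61,1), (744,31,1), (780,13,1), (792,11,1), (804,67,1), (816,17,1), (828,23,1), (852,71,1), (876,73,1), (880,11,1), (888,37,1), (900,5,2), (912,19,1), (924,11,1), (936,13,1), (945,3,3), (948,79,1), (952,7,1), (960,2,6), (984,41,1), (996,83,1), (1020,17,1), (1032,43,1), (1044,29,1), (1056,11,1), (1064,7,1), (1068,89,1)]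

/-- Orders with two prime divisors -/
def twoT : List (ℕ × ℕ × ℕ × ℕ × ℕ) := [(12,2,2,3,1), (16,2,4,3,0), (24,2,3,3,1), (27,3,3,2,0), (32,2,5,3,0), (36,2,2,3,2), (48,2,4,3,1), (56,2,3,7,1), (64,2,6,3,0), (72,2,3,3,2), (80,2,4,5,1), (81,3,4,2,0), (96,2,5,3,1), (108,2,2,3,3), (112,2,4,7,1), (125,5,3,2,0), (128,2,7,3,0), (135,3,3,5,1), (144,2,4,3,2), (160,2,5,5,1), (176,2,4,11,1), (189,3,3,7,1), (192,2,6,3,1), (208,2,4,13,1), (216,2,3,3,3), (224,2,5,7,1), (243,3,5,2,0), (256,2,8,3,0), (272,2,4,17,1), (288,2,5,3,2), (297,3,3,11,1), (304,2,4,19,1), (320,2,6,5,1), (324,2,2,3,4), (343,7,3,2,0), (351,3,3,13,1), (352,2,5,11,1), (368,2,4,23,1), (375,3,1,5,3), (384,2,7,3,1), (392,2,3,7,2), (400,2,4,5,2), (405,3,4,5,1), (416,2,5,13,1), (432,2,4,3,3), (448,2,6,7,1), (459,3,3,17,1), (464,2,4,29,1), (496,2,4,31,1), (512,2,9,3,0), (513,3,3,19,1), (544,2,5,17,1), (567,3,4,7,1), (576,2,6,3,2), (592,2,4,37,1), (608,2,5,19,1),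 (621,3,3,23,1), (625,5,4,2,0), (640,2,7,5,1), (648,2,3,3,4), (656,2,4,41,1), (675,3,3,5,2), (688,2,4,43,1), (704,2,6,11,1), (729,3,6,2,0), (736,2,5,23,1), (752,2,4,47,1), (768,2,8,3,1), (783,3,3,29,1), (784,2,4,7,2), (800,2,5,5,2), (832,2,6,13,1), (837,3,3,31,1), (848,2,4,53,1), (864,2,5,3,3), (875,5,3,7,1), (891,3,4,11,1), (896,2,7,7,1), (928,2,5,29,1), (944,2,4,59,1), (972,2,2,3,5), (976,2,4,61,1), (992,2,5,31,1), (999,3,3,37,1), (1024,2,10,3,0), (1029,3,1,7,3), (1053,3,4,13,1), (1072,2,4,67,1), (1088,2,6,17,1)]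

def hardT : List ℕ := [420, 840, 612, 720, 756, 1008, 1040, 1080]

def allowedT : List ℕ := [60, 168, 360, 504, 660, 1092]

theorem kill_ok : ∀ c ∈ killT, c.2.1 ∈ primeT ∧ 1 ≤ c.2.2 ∧ c.2.1 ^ c.2.2 ∣ c.1 ∧ ¬ c.2.1 ^ (c.2.2 + 1) ∣ c.1 ∧
    ¬ ∃ k ∈ Nat.divisors (c.1 / c.2.1 ^ c.2.2), KOK c.1 c.2.1 c.2.2 k := by
  decide +kernel

theorem two_ok : ∀ c ∈ twoT, c.2.1 ∈ primeT ∧ c.2.2.2.1 ∈ primeT ∧ c.1 = c.2.1 ^ c.2.2.1 * c.2.2.2.1 ^ c.2.2.2.2 := by
  decide +kernel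

theorem classify_ok : ∀ n : Fin 1093, (n : ℕ) ≠ 0 →
    (((n : ℕ) % 2 = 0 ∧ (12 ∣ (n : ℕ) ∨ 16 ∣ (n : ℕ) ∨ 56 ∣ (n : ℕ))) ∨
      ((n : ℕ) % 2 = 1 ∧ (27 ∣ (n : ℕ) ∨ 125 ∣ (n : ℕ) ∨ 343 ∣ (n : ℕ)))) →
    (n : ℕ) ∈ allowedT ∨ (n : ℕ) ∈ hardT ∨ (n : ℕ) ∈ killT.map Prod.fst ∨ (n : ℕ) ∈ twoT.map Prod.fst := by
  decide +kernel

variable {G : Type*} [Group G] [Finite G] [IsSimpleGroup G]

theorem kill_false (hNC : ¬ IsMulCommutative G) (c : ℕ × ℕ × ℕ) (hc : c ∈ killT) (hn : Nat.card G = c.1) :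
    False := by
  obtain ⟨h1, h2, h3, h4, h5⟩ := kill_ok c hc
  obtain ⟨h6, h7⟩ := kok_sylow hNC c.1 c.2.1 c.2.2 hn (primeT_prime _ h1) h2 h3 h4
  exact h5 ⟨_, h6, h7⟩

theorem two_false (hNC : ¬ IsMulCommutative G) (c : ℕ × ℕ × ℕ × ℕ × ℕ) (hc : c ∈ twoT) (hn : Nat.card G = c.1) :
    False := by
  obtain ⟨h1, h2, h3⟩ := two_ok c hc
  have hs : Group.IsSolvable G := Cfsg.Agent.Lead.burnside_two_prime _ _ _ _ (primeT_prime _ h1) (primeT_prime _ h2) (hn.trans h3)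
  exact hNC ⟨⟨(IsSimpleGroup.comm_iff_isSolvable (G := G)).mpr hs⟩⟩

/-- Reduction to the hard orders. -/
theorem reduce_hard (hNC : ¬ IsMulCommutative G) (h : Nat.card G ≤ 1092) :
    Nat.card G ∈ allowedT ∨ Nat.card G ∈ hardT := by
  have hpos : Nat.card G ≠ 0 := Nat.card_pos.ne'
  have hcl : (Nat.card G % 2 = 0 ∧ (12 ∣ Nat.card G ∨ 16 ∣ Nat.card G ∨ 56 ∣ Nat.card G)) ∨
      (Nat.card G % 2 = 1 ∧ (27 ∣ Nat.card G ∨ 125 ∣ Nat.card G ∨ 343 ∣ Nat.card G)) := by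
    rcases Nat.mod_two_eq_zero_or_one (Nat.card G) with h0 | h1
    · left
      exact ⟨h0, H02.simple_even_dvd hNC (Nat.dvd_of_mod_eq_zero h0)⟩
    · right
      refine ⟨h1, ?_⟩
      have hex : ∃ x y : G, x * y ≠ y * x := by
        by_contra hcon
        push Not at hcon
        exact hNC ⟨⟨hcon⟩⟩
      have hne1 : Nat.card G ≠ 1 := by
        intro hc
        haveI := (Nat.card_eq_one_iff_unique.mp hc).1
        obtain ⟨x, y, hxy⟩ := hex
        exact hxy (Subsingleton.elim _ _)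
      have hpr := Nat.minFac_prime hne1
      rcases Cfsg.Agent.S0073.result hex with h3 | h3
      · set p := (Nat.card G).minFac with hp
        have hpd : p ∣ Nat.card G := Nat.minFac_dvd _
        have hp2 : p ≠ 2 := by
          intro h2
          rw [h2] at hpd
          omega
        have hple : p ^ 3 ≤ 1092 := (Nat.le_of_dvd (by omega) h3).trans h
        have hp11 : p < 11 := by
          by_contra hcon
          push Not at hcon
          have : 11 ^ 3 ≤ p ^ 3 := Nat.pow_le_pow_left hcon 3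
          omega
        have hp0 : 2 ≤ p := hpr.two_le
        interval_cases p
        · exact absurd rfl hp2
        · left; exact h3
        · exact absurd hpr (by norm_num)
        · right; left; exact h3
        · exact absurd hpr (by norm_num)
        · right; right; exact h3
        · exact absurd hpr (by norm_num)
        · exact absurd hpr (by norm_num)
        · exact absurd hpr (by norm_num)
      · omega
  rcases classify_ok ⟨Nat.card G, by omega⟩ hpos hcl with h1 | h1 | h1 | h1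
  · exact Or.inl h1
  · exact Or.inr h1
  · exfalso
    obtain ⟨c, hc, hce⟩ := List.mem_map.mp h1
    exact kill_false hNC c hc hce.symm
  · exfalso
    obtain ⟨c, hc, hce⟩ := List.mem_map.mp h1
    exact two_false hNC c hc hce.symm

end Cfsg.Agent.H09.Ord
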