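import Mathlib
import Cfsg.Agent.Lib.H09.Sect
import Cfsg.Agent.Lib.H09.WMain

/-! Producing a section isomorphic to `S₄` from a four-group with an `S₃`-action. -/

set_option autoImplicit false

namespace Cfsg.Agent.H09

open Cfsg
open scoped Pointwise

section

variable {Y : Type*} [Group Y] [Finite Y]

theorem s4_hom_of_complement (W E : Subgroup Y) [hWn : W.Normal]
    (hinf : W ⊓ E = ⊥) (hsup : W ⊔ E = ⊤) (hW4 : Nat.card W = 4)
    (hWab : ∀ x ∈ W, ∀ y ∈ W, x * y = y * x)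
    {u τ : Y} (huE : u ∈ E) (hτE : τ ∈ E) (hu2 : u * u = 1)
    (hu : ∃ x ∈ W, u * x * u⁻¹ ≠ x) (hτ : ∃ x ∈ W, τ * x * τ⁻¹ ≠ x)
    (hτ3 : ∀ x ∈ W, τ ^ 3 * x * (τ ^ 3)⁻¹ = x) :
    ∃ ψ : Y →* Equiv.Perm (Fin 4), Function.Surjective ψ := by
  classical
  have hc : Subgroup.IsComplement' W E := by
    refine Subgroup.isComplement'_of_disjoint_and_mul_eq_univ (disjoint_iff.2 hinf) ?_
    have h1 : ((W : Set Y) * (E : Set Y)) = ((W ⊔ E : Subgroup Y) : Set Y) :=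
      (Subgroup.normal_mul W E).symm
    rw [h1, hsup]
    rfl
  have hidx : E.index = 4 := by rw [hc.index_eq_card, hW4]
  let θ := MulAction.toPermHom Y (Y ⧸ E)
  have hcardq : Nat.card (Y ⧸ E) = 4 := hidx
  let e : (Y ⧸ E) ≃ Fin 4 := Finite.equivFinOfCardEq hcardq
  let ψ : Y →* Equiv.Perm (Fin 4) := (Equiv.permCongrHom e).toMonoidHom.comp θ
  have hk : ψ.ker = E.normalCore := by
    rw [Subgroup.normalCore_eq_ker]
    ext y
    rw [MonoidHom.mem_ker, MonoidHom.mem_ker]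
    show (Equiv.permCongrHom e) (θ y) = 1 ↔ _
    rw [map_eq_one_iff _ (Equiv.permCongrHom e).injective]
  have hkn : ψ.ker.Normal := MonoidHom.normal_ker _
  have hkE : ψ.ker ≤ E := by
    rw [hk]
    exact Subgroup.normalCore_le E
  -- the action on `W`
  let ρ : E →* MulAut W := (MulAut.conjNormal (H := W)).comp E.subtype
  have hρ : ∀ (z : E) (x : W), ((ρ z) x : Y) = (z : Y) * x * (z : Y)⁻¹ := fun z x => rfl
  have hLE : ∀ k ∈ ψ.ker, ∀ x ∈ W, k * x * k⁻¹ = x := by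
    intro k hk' x hx
    have h1 : k * x * k⁻¹ * x⁻¹ ∈ ψ.ker := by
      have h2 := hkn.conj_mem k⁻¹ (ψ.ker.inv_mem hk') x
      have e1 : x * k⁻¹ * x⁻¹ = k⁻¹ * (k * x * k⁻¹ * x⁻¹) := by group
      rw [e1] at h2
      have h3 := ψ.ker.mul_mem hk' h2
      simpa using h3
    have h2 : k * x * k⁻¹ * x⁻¹ ∈ W := W.mul_mem (hWn.conj_mem x hx k) (W.inv_mem hx)
    have h3 : k * x * k⁻¹ * x⁻¹ ∈ W ⊓ E := ⟨h2, hkE h1⟩
    rw [hinf, Subgroup.mem_bot] at h3
    exact mul_inv_eq_one.1 h3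
  have hρu : (ρ ⟨u, huE⟩) ^ 2 = 1 := by
    ext x
    show (((ρ ⟨u, huE⟩) ^ 2) x : Y) = x
    rw [sq, MulAut.mul_apply, hρ, hρ]
    show u * (u * (x : Y) * u⁻¹) * u⁻¹ = x
    have hi : u⁻¹ = u := inv_eq_of_mul_eq_one_left hu2
    calc u * (u * (x : Y) * u⁻¹) * u⁻¹ = (u * u) * x * (u * u)⁻¹ := by group
      _ = x := by rw [hu2]; simp
  have hρu1 : ρ ⟨u, huE⟩ ≠ 1 := by
    intro h
    obtain ⟨x, hx, hne⟩ := hu
    apply hne
    have := congrArg (fun φ : MulAut W => ((φ ⟨x, hx⟩ : W) : Y)) h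
    simpa [hρ] using this
  have hρτ : (ρ ⟨τ, hτE⟩) ^ 3 = 1 := by
    have e1 : (ρ ⟨τ, hτE⟩) ^ 3 = ρ ⟨τ ^ 3, E.pow_mem hτE 3⟩ := by
      rw [← map_pow]
      rfl
    rw [e1]
    ext x
    show (ρ ⟨τ ^ 3, E.pow_mem hτE 3⟩ x : Y) = x
    rw [hρ]
    exact hτ3 x x.2
  have hρτ1 : ρ ⟨τ, hτE⟩ ≠ 1 := by
    intro h
    obtain ⟨x, hx, hne⟩ := hτ
    apply hne
    have := congrArg (fun φ : MulAut W => ((φ ⟨x, hx⟩ : W) : Y)) h
    simpa [hρ] using this
  have h6 : 6 ∣ Nat.card ρ.range := by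
    have h2 : 2 ∣ Nat.card ρ.range := by
      have : orderOf (⟨ρ ⟨u, huE⟩, ⟨_, rfl⟩⟩ : ρ.range) = 2 := by
        refine orderOf_eq_prime ?_ ?_
        · exact Subtype.ext hρu
        · intro h
          exact hρu1 (congrArg Subtype.val h)
      rw [← this]
      exact orderOf_dvd_natCard _
    have h3 : 3 ∣ Nat.card ρ.range := by
      have : orderOf (⟨ρ ⟨τ, hτE⟩, ⟨_, rfl⟩⟩ : ρ.range) = 3 := by
        haveI : Fact (Nat.Prime 3) := ⟨Nat.prime_three⟩
        refine orderOf_eq_prime ?_ ?_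
        · exact Subtype.ext hρτ
        · intro h
          exact hρτ1 (congrArg Subtype.val h)
      rw [← this]
      exact orderOf_dvd_natCard _
    exact Nat.Coprime.mul_dvd_of_dvd_of_dvd (by norm_num) h2 h3
  have hn6 : 6 ≤ Nat.card ρ.range := Nat.le_of_dvd Nat.card_pos h6
  -- counting
  have hE1 : Nat.card ρ.ker * Nat.card ρ.range = Nat.card E := by
    have h1 := ρ.ker.card_mul_index
    rwa [Subgroup.index_ker] at h1
  have hkL : Nat.card ψ.ker ≤ Nat.card ρ.ker := by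
    have h1 : (ψ.ker).subgroupOf E ≤ ρ.ker := by
      intro k hk'
      rw [Subgroup.mem_subgroupOf] at hk'
      rw [MonoidHom.mem_ker]
      ext x
      show (ρ k x : Y) = x
      rw [hρ]
      exact hLE _ hk' x x.2
    have h2 := Subgroup.card_le_of_le h1
    rwa [Nat.card_congr (Subgroup.subgroupOfEquivOfLe hkE).toEquiv] at h2
  have hY : Nat.card W * Nat.card E = Nat.card Y := hc.card_mul_card
  have hY2 : Nat.card ψ.ker * Nat.card ψ.range = Nat.card Y := by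
    have h1 := ψ.ker.card_mul_index
    rwa [Subgroup.index_ker] at h1
  have hkpos : 0 < Nat.card ψ.ker := Nat.card_pos
  have hrange : 24 ≤ Nat.card ψ.range := by
    by_contra hlt
    push Not at hlt
    have h1 : Nat.card ψ.ker * Nat.card ψ.range < Nat.card ψ.ker * 24 :=
      Nat.mul_lt_mul_of_pos_left hlt hkpos
    have h2 : Nat.card ψ.ker * 24 ≤ Nat.card Y := by
      rw [← hY, hW4, ← hE1]
      calc Nat.card ψ.ker * 24 ≤ Nat.card ρ.ker * 24 := Nat.mul_le_mul_right _ hkL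
        _ = 4 * (Nat.card ρ.ker * 6) := by ring
        _ ≤ 4 * (Nat.card ρ.ker * Nat.card ρ.range) :=
          Nat.mul_le_mul_left _ (Nat.mul_le_mul_left _ hn6)
    omega
  have hcard : Nat.card (Equiv.Perm (Fin 4)) = 24 := by
    rw [Nat.card_eq_fintype_card, Fintype.card_perm]; rfl
  refine ⟨ψ, MonoidHom.range_eq_top.1 ?_⟩
  refine Subgroup.eq_top_of_le_card _ ?_
  rw [hcard]
  exact hrange

end

section

variable {G : Type*} [Group G] [Finite G]

/-- The dihedral form of the statement. -/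
theorem involves_s4_of_pair {W : Subgroup G} (hW4 : Nat.card W = 4)
    (hWab : ∀ x ∈ W, ∀ y ∈ W, x * y = y * x) (hW2 : ∀ x ∈ W, x * x = 1) {u τ : G}
    (hu2 : u * u = 1) (huτ : u * τ * u⁻¹ = τ⁻¹) (hodd : Odd (orderOf τ))
    (huW : ∀ x ∈ W, u * x * u⁻¹ ∈ W) (hτW : ∀ x ∈ W, τ * x * τ⁻¹ ∈ W)
    (hτ : ∃ x ∈ W, τ * x * τ⁻¹ ≠ x) (hτ3 : ∀ x ∈ W, τ ^ 3 * x * (τ ^ 3)⁻¹ = x) :
    Involves (Equiv.Perm (Fin 4)) G := by
  classical
  have hui : u⁻¹ = u := inv_eq_of_mul_eq_one_left hu2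
  have huz : ∀ i : ℤ, u * τ ^ i * u⁻¹ = τ ^ (-i) := by
    intro i
    rw [← conj_zpow, huτ, inv_zpow, zpow_neg]
  set E₀ : Subgroup G := Subgroup.closure {u, τ} with hE₀
  have huE : u ∈ E₀ := Subgroup.subset_closure (by simp)
  have hτE : τ ∈ E₀ := Subgroup.subset_closure (by simp)
  have hform : ∀ z ∈ E₀, (∃ i : ℤ, z = τ ^ i) ∨ (∃ i : ℤ, z = τ ^ i * u) := by
    intro z hz
    induction hz using Subgroup.closure_induction with
    | mem x hx =>
      rcases hx with rfl | hx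
      · exact Or.inr ⟨0, by simp⟩
      · rw [Set.mem_singleton_iff] at hx
        subst hx
        exact Or.inl ⟨1, by simp⟩
    | one => exact Or.inl ⟨0, by simp⟩
    | mul x y _ _ hx hy =>
      rcases hx with ⟨i, rfl⟩ | ⟨i, rfl⟩ <;> rcases hy with ⟨j, rfl⟩ | ⟨j, rfl⟩
      · exact Or.inl ⟨i + j, by rw [zpow_add]⟩
      · exact Or.inr ⟨i + j, by rw [zpow_add, mul_assoc]⟩
      · refine Or.inr ⟨i - j, ?_⟩
        have h := huz j
        calc τ ^ i * u * τ ^ j = τ ^ i * (u * τ ^ j * u⁻¹) * u := by group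
          _ = τ ^ (i - j) * u := by rw [h, sub_eq_add_neg, zpow_add]
      · refine Or.inl ⟨i - j, ?_⟩
        have h := huz j
        calc τ ^ i * u * (τ ^ j * u) = τ ^ i * (u * τ ^ j * u⁻¹) * (u * u) := by group
          _ = τ ^ (i - j) := by rw [h, hu2, mul_one, sub_eq_add_neg, zpow_add]
    | inv x _ hx =>
      rcases hx with ⟨i, rfl⟩ | ⟨i, rfl⟩
      · exact Or.inl ⟨-i, by rw [zpow_neg]⟩
      · refine Or.inr ⟨i, ?_⟩
        have h := huz i
        calc (τ ^ i * u)⁻¹ = u⁻¹ * (τ ^ i)⁻¹ := by rw [mul_inv_rev]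
          _ = u * τ ^ (-i) * u⁻¹ * u := by
            rw [zpow_neg, inv_mul_cancel_right, hui]
          _ = τ ^ i * u := by rw [huz (-i), neg_neg]
  -- `τ` cannot act as an involution
  have hτsq : ¬ ∀ y ∈ W, τ⁻¹ * y * τ = τ * y * τ⁻¹ := by
    intro h
    obtain ⟨x, hx, hne⟩ := hτ
    apply hne
    have h1 : ∀ y ∈ W, τ ^ 2 * y * (τ ^ 2)⁻¹ = y := by
      intro y hy
      have h2 := h y hy
      calc τ ^ 2 * y * (τ ^ 2)⁻¹ = τ * (τ * y * τ⁻¹) * τ⁻¹ := by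
            simp only [sq, mul_inv_rev, mul_assoc]
        _ = τ * (τ⁻¹ * y * τ) * τ⁻¹ := by rw [h2]
        _ = y := by group
    have h3 := hτ3 x hx
    have h4 := h1 (τ * x * τ⁻¹) (hτW x hx)
    calc τ * x * τ⁻¹ = τ ^ 2 * (τ * x * τ⁻¹) * (τ ^ 2)⁻¹ := h4.symm
      _ = τ ^ 3 * x * (τ ^ 3)⁻¹ := by
        simp only [pow_succ, pow_zero, one_mul, mul_inv_rev, mul_assoc]
      _ = x := h3
  have hint : ∀ z, z ∈ W → z ∈ E₀ → z = 1 := by
    intro z hzW hzE
    rcases hform z hzE with ⟨i, rfl⟩ | ⟨i, rfl⟩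
    · have h1 : orderOf (τ ^ i) ∣ orderOf τ := orderOf_dvd_of_pow_eq_one (by
        rw [← zpow_natCast, ← zpow_mul, mul_comm, zpow_mul, zpow_natCast, pow_orderOf_eq_one, one_zpow])
      have h2 : orderOf (τ ^ i) ∣ 2 := orderOf_dvd_of_pow_eq_one (by rw [sq]; exact hW2 _ hzW)
      have h3 : Odd (orderOf (τ ^ i)) := Odd.of_dvd_nat hodd h1
      have h4 : orderOf (τ ^ i) = 1 := by
        rcases (Nat.dvd_prime Nat.prime_two).1 h2 with h | h
        · exact h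
        · rw [h] at h3
          exact absurd h3 (by decide)
      exact orderOf_eq_one_iff.1 h4
    · exfalso
      apply hτsq
      have hc : ∀ x ∈ W, (τ ^ i * u) * x * (τ ^ i * u)⁻¹ = x := by
        intro x hx
        rw [hWab _ hzW x hx]
        group
      have hstar : ∀ y ∈ W, τ ^ i * y * (τ ^ i)⁻¹ = u * y * u⁻¹ := by
        intro y hy
        have h1 := hc _ (huW y hy)
        have e1 : (τ ^ i * u) * (u * y * u⁻¹) * (τ ^ i * u)⁻¹ = τ ^ i * (u * u) * y * (u * u)⁻¹ * (τ ^ i)⁻¹ := by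
          simp only [mul_inv_rev, mul_assoc]
        rw [e1, hu2] at h1
        simpa using h1
      intro y' hy'
      set y := u * y' * u⁻¹ with hy
      have hyW : y ∈ W := huW y' hy'
      have hyy' : u * y * u⁻¹ = y' := by
        rw [hy]
        calc u * (u * y' * u⁻¹) * u⁻¹ = (u * u) * y' * (u * u)⁻¹ := by simp only [mul_inv_rev, mul_assoc]
          _ = y' := by rw [hu2]; simp
      have h1 := hstar _ (hτW y hyW)
      have h2 : τ ^ i * (τ * y * τ⁻¹) * (τ ^ i)⁻¹ = τ * (τ ^ i * y * (τ ^ i)⁻¹) * τ⁻¹ := by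
        have hcomm : τ ^ i * τ = τ * τ ^ i := (Commute.zpow_self τ i).eq
        calc τ ^ i * (τ * y * τ⁻¹) * (τ ^ i)⁻¹ = (τ ^ i * τ) * y * (τ ^ i * τ)⁻¹ := by
              simp only [mul_inv_rev, mul_assoc]
          _ = τ * (τ ^ i * y * (τ ^ i)⁻¹) * τ⁻¹ := by
              rw [hcomm]
              simp only [mul_inv_rev, mul_assoc]
      rw [h2, hstar y hyW, hyy'] at h1
      have h3 : u * (τ * y * τ⁻¹) * u⁻¹ = τ⁻¹ * y' * τ := by
        calc u * (τ * y * τ⁻¹) * u⁻¹ = (u * τ * u⁻¹) * (u * y * u⁻¹) * (u * τ * u⁻¹)⁻¹ := by group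
          _ = τ⁻¹ * y' * τ := by rw [huτ, hyy', inv_inv]
      rw [h3] at h1
      exact h1.symm
  -- the group `H`
  have hnormE : E₀ ≤ Subgroup.normalizer (W : Set G) := by
    rw [hE₀, Subgroup.closure_le]
    rintro x (rfl | hx)
    · exact mem_normalizer_of_conj_le huW
    · rw [Set.mem_singleton_iff] at hx
      subst hx
      exact mem_normalizer_of_conj_le hτW
  have hnormW : W ≤ Subgroup.normalizer (W : Set G) := Subgroup.le_normalizer
  set H : Subgroup G := W ⊔ E₀ with hH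
  have hWH : W ≤ H := le_sup_left
  have hEH : E₀ ≤ H := le_sup_right
  have hHN : H ≤ Subgroup.normalizer (W : Set G) := sup_le hnormW hnormE
  haveI hWn : (W.subgroupOf H).Normal := by
    refine ⟨fun x hx g => ?_⟩
    rw [Subgroup.mem_subgroupOf] at hx ⊢
    exact (Subgroup.mem_normalizer_iff.1 (hHN g.2) _).1 hx
  have hinf : W.subgroupOf H ⊓ E₀.subgroupOf H = ⊥ := by
    rw [eq_bot_iff]
    intro x hx
    rw [Subgroup.mem_bot]
    exact Subtype.ext (hint _ (Subgroup.mem_subgroupOf.1 hx.1) (Subgroup.mem_subgroupOf.1 hx.2))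
  have hsup : W.subgroupOf H ⊔ E₀.subgroupOf H = ⊤ := by
    rw [← Subgroup.subgroupOf_sup hWH hEH]
    exact Subgroup.subgroupOf_self _
  have hcard : Nat.card (W.subgroupOf H) = 4 := by
    rw [Nat.card_congr (Subgroup.subgroupOfEquivOfLe hWH).toEquiv, hW4]
  -- `u` acts nontrivially
  have hu' : ∃ x ∈ W, u * x * u⁻¹ ≠ x := by
    by_contra hcon
    push Not at hcon
    apply hτsq
    intro y hy
    have h1 := hcon _ (hτW y hy)
    have h2 := hcon y hy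
    have h3 : u * (τ * y * τ⁻¹) * u⁻¹ = (u * τ * u⁻¹) * (u * y * u⁻¹) * (u * τ * u⁻¹)⁻¹ := by group
    rw [h3, huτ, h2, inv_inv] at h1
    exact h1
  obtain ⟨ψ, hψ⟩ := s4_hom_of_complement (W.subgroupOf H) (E₀.subgroupOf H) hinf hsup hcard
    (u := ⟨u, hEH huE⟩) (τ := ⟨τ, hEH hτE⟩)
    (fun x hx y hy => Subtype.ext (hWab _ (Subgroup.mem_subgroupOf.1 hx) _ (Subgroup.mem_subgroupOf.1 hy)))
    (Subgroup.mem_subgroupOf.2 huE) (Subgroup.mem_subgroupOf.2 hτE) (Subtype.ext hu2)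
    (by
      obtain ⟨x, hx, hne⟩ := hu'
      refine ⟨⟨x, hWH hx⟩, Subgroup.mem_subgroupOf.2 hx, fun h => hne ?_⟩
      exact congrArg Subtype.val h)
    (by
      obtain ⟨x, hx, hne⟩ := hτ
      refine ⟨⟨x, hWH hx⟩, Subgroup.mem_subgroupOf.2 hx, fun h => hne ?_⟩
      exact congrArg Subtype.val h)
    (fun x hx => Subtype.ext (hτ3 _ (Subgroup.mem_subgroupOf.1 hx)))
  exact involves_of_surjective H ψ hψ

/-- The form of the statement used in applications. -/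
theorem involves_s4_of_action {W : Subgroup G} (hW4 : Nat.card W = 4)
    (hWab : ∀ x ∈ W, ∀ y ∈ W, x * y = y * x) (hW2 : ∀ x ∈ W, x * x = 1) {a f : G}
    (ha2 : a * a = 1) (hfodd : Odd (orderOf f))
    (hf3 : ∀ x ∈ W, f ^ 3 * x * (f ^ 3)⁻¹ = x) (haW : ∀ x ∈ W, a * x * a⁻¹ ∈ W)
    (hfW : ∀ x ∈ W, f * x * f⁻¹ ∈ W)
    (hinv : ∀ x ∈ W, (a * f * a⁻¹) * x * (a * f * a⁻¹)⁻¹ = f⁻¹ * x * f)
    (hne : ∃ x ∈ W, f * x * f⁻¹ ≠ x) : Involves (Equiv.Perm (Fin 4)) G := by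
  classical
  have hai : a⁻¹ = a := inv_eq_of_mul_eq_one_left ha2
  have hfinv : ∀ x ∈ W, f⁻¹ * x * f ∈ W := by
    intro x hx
    have h1 := hfW _ (hfW x hx)
    have h3 := hf3 x hx
    have e : f⁻¹ * x * f = f * (f * x * f⁻¹) * f⁻¹ := by
      conv_lhs => rw [← h3]
      simp only [pow_succ, pow_zero, one_mul, mul_inv_rev]
      group
    rw [e]
    exact h1
  let w : G := (a * f * a⁻¹) * f⁻¹
  have hw : ∀ x ∈ W, w * x * w⁻¹ = f * x * f⁻¹ := by
    intro x hx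
    have h1 := hinv _ (hfinv x hx)
    have h3 := hf3 _ (hfinv _ (hfinv x hx))
    calc w * x * w⁻¹ = (a * f * a⁻¹) * (f⁻¹ * x * f) * (a * f * a⁻¹)⁻¹ := by
          simp only [w, mul_inv_rev, inv_inv, mul_assoc]
      _ = f⁻¹ * (f⁻¹ * x * f) * f := h1
      _ = f * x * f⁻¹ := by
        conv_lhs => rw [← h3]
        simp only [pow_succ, pow_zero, one_mul, mul_inv_rev]
        group
  have huw : a * w * a⁻¹ = w⁻¹ := by
    show a * ((a * f * a⁻¹) * f⁻¹) * a⁻¹ = ((a * f * a⁻¹) * f⁻¹)⁻¹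
    rw [hai]
    calc a * (a * f * a * f⁻¹) * a = (a * a) * f * a * f⁻¹ * a := by simp only [mul_assoc]
      _ = f * a * f⁻¹ * a := by rw [ha2, one_mul]
      _ = (a * f * a * f⁻¹)⁻¹ := by
        simp only [mul_inv_rev, inv_inv, hai, mul_assoc]
  have hwpow : ∀ (j : ℕ), ∀ x ∈ W, w ^ j * x * (w ^ j)⁻¹ = f ^ j * x * (f ^ j)⁻¹ := by
    intro j
    induction j with
    | zero => intro x _; simp
    | succ j ih =>
      intro x hx
      have h1 := ih _ (hfW x hx)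
      calc w ^ (j + 1) * x * (w ^ (j + 1))⁻¹ = w ^ j * (w * x * w⁻¹) * (w ^ j)⁻¹ := by
            simp only [pow_succ, mul_inv_rev, mul_assoc]
        _ = w ^ j * (f * x * f⁻¹) * (w ^ j)⁻¹ := by rw [hw x hx]
        _ = f ^ j * (f * x * f⁻¹) * (f ^ j)⁻¹ := h1
        _ = f ^ (j + 1) * x * (f ^ (j + 1))⁻¹ := by
            simp only [pow_succ, mul_inv_rev, mul_assoc]
  have hfWpow : ∀ (j : ℕ), ∀ x ∈ W, f ^ j * x * (f ^ j)⁻¹ ∈ W := by
    intro j
    induction j with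
    | zero => intro x hx; simpa using hx
    | succ j ih =>
      intro x hx
      have h1 := ih _ (hfW x hx)
      have e : f ^ j * (f * x * f⁻¹) * (f ^ j)⁻¹ = f ^ (j + 1) * x * (f ^ (j + 1))⁻¹ := by
        simp only [pow_succ, mul_inv_rev, mul_assoc]
      rwa [e] at h1
  have hf3pow : ∀ (j : ℕ), ∀ x ∈ W, (f ^ 3) ^ j * x * ((f ^ 3) ^ j)⁻¹ = x := by
    intro j
    induction j with
    | zero => intro x _; simp
    | succ j ih =>
      intro x hx
      have h1 := ih _ hx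
      calc (f ^ 3) ^ (j + 1) * x * ((f ^ 3) ^ (j + 1))⁻¹
          = (f ^ 3) ^ j * (f ^ 3 * x * (f ^ 3)⁻¹) * ((f ^ 3) ^ j)⁻¹ := by
            simp only [pow_succ, mul_inv_rev, mul_assoc]
        _ = x := by rw [hf3 x hx, h1]
  have hn : orderOf w ≠ 0 := (orderOf_pos w).ne'
  obtain ⟨k, m, hm, hkm⟩ := Nat.exists_eq_two_pow_mul_odd hn
  set τ : G := w ^ (2 ^ k) with hτdef
  have hτm : τ ^ m = 1 := by
    rw [hτdef, ← pow_mul, ← hkm, pow_orderOf_eq_one]
  have hoddτ : Odd (orderOf τ) := Odd.of_dvd_nat hm (orderOf_dvd_of_pow_eq_one hτm)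
  have huτ : a * τ * a⁻¹ = τ⁻¹ := by
    rw [hτdef, ← conj_pow, huw, inv_pow]
  refine involves_s4_of_pair hW4 hWab hW2 ha2 huτ hoddτ haW ?_ ?_ ?_
  · intro x hx
    rw [hτdef, hwpow _ x hx]
    exact hfWpow _ x hx
  · obtain ⟨x, hx, hne⟩ := hne
    refine ⟨x, hx, ?_⟩
    rw [hτdef, hwpow _ x hx]
    intro h
    apply hne
    have hcop : (2 ^ k).Coprime (orderOf f) := by
      refine Nat.Coprime.pow_left k ?_
      exact (Nat.coprime_two_left).2 hfodd
    obtain ⟨c, hc⟩ := exists_pow_eq_self_of_coprime hcop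
    have hcomm : Commute (f ^ (2 ^ k)) x := by
      show f ^ (2 ^ k) * x = x * f ^ (2 ^ k)
      calc f ^ (2 ^ k) * x = (f ^ (2 ^ k) * x * (f ^ (2 ^ k))⁻¹) * f ^ (2 ^ k) := by group
        _ = x * f ^ (2 ^ k) := by rw [h]
    have h4 : Commute f x := by
      have := hcomm.pow_left c
      rwa [hc] at this
    have h5 : f * x = x * f := h4
    rw [h5]
    group
  · intro x hx
    have e : τ ^ 3 = w ^ (2 ^ k * 3) := by rw [hτdef, ← pow_mul]
    rw [e, hwpow _ x hx, mul_comm, pow_mul, hf3pow _ x hx]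

end

end Cfsg.Agent.H09
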