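import Mathlib
import Cfsg.Agent.Lib.H09.S4Sect
import Cfsg.Agent.Lib.H06.Nilp
import Cfsg.Agent.Lib.H09.Conj

/-! The quadratic-offender step: an element of odd order acting nontrivially on an
elementary abelian normal subgroup, with an involution inverting it on that subgroup
and a subgroup of index at most two in the centraliser, forces an `S₄`-section. -/

set_option autoImplicit false

namespace Cfsg.Agent.H09

open Cfsg

variable {G : Type*} [Group G] [Finite G]

theorem exists_comm_sub {X : Subgroup G} (hXab : ∀ x ∈ X, ∀ y ∈ X, x * y = y * x) {f : G}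
    (hXf : ∀ x ∈ X, f * x * f⁻¹ ∈ X) :
    ∃ W : Subgroup G, ∀ x, x ∈ W ↔ ∃ u ∈ X, x = u⁻¹ * (f * u * f⁻¹) := by
  refine ⟨{ carrier := {x | ∃ u ∈ X, x = u⁻¹ * (f * u * f⁻¹)}
            mul_mem' := ?_, one_mem' := ?_, inv_mem' := ?_ }, fun x => Iff.rfl⟩
  · rintro _ _ ⟨u, hu, rfl⟩ ⟨v, hv, rfl⟩
    refine ⟨u * v, X.mul_mem hu hv, ?_⟩
    have c1 : f * u * f⁻¹ * v⁻¹ = v⁻¹ * (f * u * f⁻¹) := hXab _ (hXf u hu) _ (X.inv_mem hv)
    have c2 : u⁻¹ * v⁻¹ = v⁻¹ * u⁻¹ := hXab _ (X.inv_mem hu) _ (X.inv_mem hv)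
    calc u⁻¹ * (f * u * f⁻¹) * (v⁻¹ * (f * v * f⁻¹))
        = u⁻¹ * (f * u * f⁻¹ * v⁻¹) * (f * v * f⁻¹) := by group
      _ = (u⁻¹ * v⁻¹) * (f * u * f⁻¹) * (f * v * f⁻¹) := by rw [c1]; group
      _ = (v⁻¹ * u⁻¹) * (f * u * f⁻¹) * (f * v * f⁻¹) := by rw [c2]
      _ = (u * v)⁻¹ * (f * (u * v) * f⁻¹) := by group
  · exact ⟨1, X.one_mem, by group⟩
  · rintro _ ⟨u, hu, rfl⟩
    refine ⟨u⁻¹, X.inv_mem hu, ?_⟩
    have c1 : (f * u * f⁻¹)⁻¹ * u = u * (f * u * f⁻¹)⁻¹ := hXab _ (X.inv_mem (hXf u hu)) _ hu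
    calc (u⁻¹ * (f * u * f⁻¹))⁻¹ = (f * u * f⁻¹)⁻¹ * u := by group
      _ = u * (f * u * f⁻¹)⁻¹ := c1
      _ = u⁻¹⁻¹ * (f * u⁻¹ * f⁻¹) := by group

theorem comm_fixed_eq_one {f u z : G} (hodd : Odd (orderOf f)) (hz : z = u⁻¹ * (f * u * f⁻¹))
    (hzf : f * z * f⁻¹ = z) (hz2 : z * z = 1) : z = 1 := by
  have hcomm : Commute f z := by
    show f * z = z * f
    calc f * z = (f * z * f⁻¹) * f := by group
      _ = z * f := by rw [hzf]
  have hpow : ∀ n : ℕ, z ^ n = u⁻¹ * (f ^ n * u * (f ^ n)⁻¹) := by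
    intro n
    induction n with
    | zero => simp
    | succ n ih =>
      have h1 : f ^ n * z * (f ^ n)⁻¹ = z := by
        have := (hcomm.pow_left n).eq
        rw [this]; group
      calc z ^ (n + 1) = z ^ n * z := pow_succ _ _
        _ = z ^ n * (f ^ n * z * (f ^ n)⁻¹) := by rw [h1]
        _ = u⁻¹ * (f ^ n * u * (f ^ n)⁻¹) * (f ^ n * (u⁻¹ * (f * u * f⁻¹)) * (f ^ n)⁻¹) := by
            rw [ih, ← hz]
        _ = u⁻¹ * (f ^ (n + 1) * u * (f ^ (n + 1))⁻¹) := by
            simp only [pow_succ, mul_inv_rev]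
            group
  have h1 := hpow (orderOf f)
  rw [pow_orderOf_eq_one] at h1
  simp only [one_mul, inv_one, mul_one, inv_mul_cancel] at h1
  obtain ⟨k, hk⟩ := hodd
  rw [hk, pow_succ, pow_mul, pow_two, hz2, one_pow, one_mul] at h1
  exact h1

/-- The element `f` moves something in the centraliser of `B` in `V`. -/
theorem exists_moved_centralizer {V B : Subgroup G} (hVn : V.Normal) {f : G}
    (hVab : ∀ x ∈ V, ∀ y ∈ V, x * y = y * x) (hV2 : ∀ x ∈ V, x * x = 1)
    (hB2 : IsPGroup 2 B) (hodd : Odd (orderOf f)) (hne : ∃ v ∈ V, f * v * f⁻¹ ≠ v)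
    (hcomm : ∀ b ∈ B, ∀ v ∈ V, (b * f * b⁻¹) * v * (b * f * b⁻¹)⁻¹ = f * v * f⁻¹) :
    ∃ u ∈ V ⊓ Subgroup.centralizer (B : Set G), f * u * f⁻¹ ≠ u := by
  classical
  haveI : Fact (Nat.Prime 2) := ⟨Nat.prime_two⟩
  obtain ⟨T, hT⟩ := exists_comm_sub (X := V) hVab (f := f) (fun x hx => hVn.conj_mem x hx f)
  have hTV : T ≤ V := by
    intro x hx
    obtain ⟨u, hu, rfl⟩ := (hT x).1 hx
    exact V.mul_mem (V.inv_mem hu) (hVn.conj_mem u hu f)
  have hT1 : T ≠ ⊥ := by
    obtain ⟨v, hv, hv1⟩ := hne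
    intro h
    have h1 : v⁻¹ * (f * v * f⁻¹) ∈ T := (hT _).2 ⟨v, hv, rfl⟩
    rw [h, Subgroup.mem_bot] at h1
    exact hv1 (by
      have := inv_mul_eq_one.1 h1
      exact this.symm)
  have hTp : IsPGroup 2 T := by
    intro x
    refine ⟨1, Subtype.ext ?_⟩
    show ((x : G)) ^ (2 ^ 1) = 1
    rw [pow_one, pow_two]
    exact hV2 _ (hTV x.2)
  have hBT : ∀ b ∈ B, ∀ t ∈ T, b * t * b⁻¹ ∈ T := by
    intro b hb t ht
    obtain ⟨v, hv, rfl⟩ := (hT t).1 ht
    have hv' : b * v * b⁻¹ ∈ V := hVn.conj_mem v hv b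
    refine (hT _).2 ⟨b * v * b⁻¹, hv', ?_⟩
    have h1 := hcomm b hb _ hv'
    rw [← h1]
    group
  have hBN : B ≤ Subgroup.normalizer (T : Set G) := by
    intro b hb
    exact mem_normalizer_of_conj_le (hBT b hb)
  have hsup : IsPGroup 2 (T ⊔ B : Subgroup G) := IsPGroup.to_sup_of_normal_left' hTp hB2 hBN
  haveI : Finite (T ⊔ B : Subgroup G) := inferInstance
  haveI : Group.IsNilpotent (T ⊔ B : Subgroup G) := hsup.isNilpotent
  have hTle : T ≤ T ⊔ B := le_sup_left
  have hBle : B ≤ T ⊔ B := le_sup_right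
  have hNn : (T.subgroupOf (T ⊔ B)).Normal := by
    constructor
    intro x hx g
    rw [Subgroup.mem_subgroupOf] at hx ⊢
    have hg : (g : G) ∈ Subgroup.normalizer (T : Set G) := by
      have : (T ⊔ B : Subgroup G) ≤ Subgroup.normalizer (T : Set G) :=
        sup_le Subgroup.le_normalizer hBN
      exact this g.2
    exact (Subgroup.mem_normalizer_iff.1 hg _).1 hx
  have hNne : T.subgroupOf (T ⊔ B) ≠ ⊥ := by
    intro h
    apply hT1
    rw [Subgroup.subgroupOf_eq_bot] at h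
    exact eq_bot_iff.2 (by simpa [disjoint_iff, inf_eq_right.2 hTle] using h)
  obtain ⟨z, hzT, hz1, hzc⟩ := Cfsg.Agent.H06.exists_central_of_normal hNn hNne
  rw [Subgroup.mem_subgroupOf] at hzT
  have hz1' : (z : G) ≠ 1 := fun h => hz1 (Subtype.ext h)
  have hzc' : ∀ b ∈ B, b * (z : G) = (z : G) * b := by
    intro b hb
    have h1 := (Subgroup.mem_center_iff.1 hzc) ⟨b, hBle hb⟩
    exact congrArg Subtype.val h1
  have hzU : (z : G) ∈ V ⊓ Subgroup.centralizer (B : Set G) :=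
    ⟨hTV hzT, Subgroup.mem_centralizer_iff.2 (fun b hb => hzc' b hb)⟩
  refine ⟨z, hzU, ?_⟩
  intro h
  obtain ⟨v, hv, hzv⟩ := (hT _).1 hzT
  exact hz1' (comm_fixed_eq_one hodd hzv h (hV2 _ (hTV hzT)))

/-- Conjugation by a power of `f` preserves any subgroup `f` normalises. -/
theorem pow_conj_mem {X : Subgroup G} {f : G} (hXf : ∀ x ∈ X, f * x * f⁻¹ ∈ X) (j : ℕ) :
    ∀ x ∈ X, f ^ j * x * (f ^ j)⁻¹ ∈ X := by
  induction j with
  | zero => intro x hx; simpa using hx
  | succ j ih =>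
    intro x hx
    have h1 := ih _ (hXf x hx)
    have e : f ^ j * (f * x * f⁻¹) * (f ^ j)⁻¹ = f ^ (j + 1) * x * (f ^ (j + 1))⁻¹ := by
      simp only [pow_succ, mul_inv_rev, mul_assoc]
    rwa [e] at h1

theorem inv_conj_mem {X : Subgroup G} {f : G} (hXf : ∀ x ∈ X, f * x * f⁻¹ ∈ X) :
    ∀ x ∈ X, f⁻¹ * x * f ∈ X := by
  intro x hx
  have h1 := pow_conj_mem hXf (orderOf f - 1) x hx
  have hn : orderOf f - 1 + 1 = orderOf f := Nat.sub_add_cancel (orderOf_pos f)
  have e : f ^ (orderOf f - 1) = f⁻¹ := by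
    rw [eq_inv_iff_mul_eq_one, ← pow_succ, hn, pow_orderOf_eq_one]
  rwa [e, inv_inv] at h1

/-- The quadratic-offender step. -/
theorem involves_s4_of_offender {V B : Subgroup G} (hVn : V.Normal) {a f : G}
    (hVab : ∀ x ∈ V, ∀ y ∈ V, x * y = y * x) (hV2 : ∀ x ∈ V, x * x = 1)
    (hB2 : IsPGroup 2 B) (hab : ∀ b ∈ B, a * b = b * a) (ha2 : a * a = 1)
    (hodd : Odd (orderOf f)) (hne : ∃ v ∈ V, f * v * f⁻¹ ≠ v)
    (hinv : ∀ v ∈ V, (a * f * a⁻¹) * v * (a * f * a⁻¹)⁻¹ = f⁻¹ * v * f)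
    (hcomm : ∀ b ∈ B, ∀ v ∈ V, (b * f * b⁻¹) * v * (b * f * b⁻¹)⁻¹ = f * v * f⁻¹)
    (hU : (Subgroup.centralizer ({a} : Set G)).relIndex (V ⊓ Subgroup.centralizer (B : Set G)) ≤ 2) :
    Involves (Equiv.Perm (Fin 4)) G := by
  classical
  obtain ⟨u₀, hu₀U, hu₀⟩ := exists_moved_centralizer hVn hVab hV2 hB2 hodd hne hcomm
  set U : Subgroup G := V ⊓ Subgroup.centralizer (B : Set G) with hUdef
  have hUV : U ≤ V := inf_le_left
  have hUc : ∀ u ∈ U, ∀ b ∈ B, b * u = u * b := fun u hu b hb =>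
    Subgroup.mem_centralizer_iff.1 hu.2 b hb
  have hUab : ∀ x ∈ U, ∀ y ∈ U, x * y = y * x := fun x hx y hy => hVab x (hUV hx) y (hUV hy)
  have hUf : ∀ u ∈ U, f * u * f⁻¹ ∈ U := by
    intro u hu
    refine ⟨hVn.conj_mem u (hUV hu) f, Subgroup.mem_centralizer_iff.2 ?_⟩
    intro b hb
    have h1 := hcomm b hb u (hUV hu)
    have h2 : b * u * b⁻¹ = u := by rw [hUc u hu b hb]; group
    calc b * (f * u * f⁻¹) = (b * f * b⁻¹) * (b * u * b⁻¹) * (b * f * b⁻¹)⁻¹ * b := by group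
      _ = (f * u * f⁻¹) * b := by rw [h2, h1]
  have hUa : ∀ u ∈ U, a * u * a⁻¹ ∈ U := by
    intro u hu
    refine ⟨hVn.conj_mem u (hUV hu) a, Subgroup.mem_centralizer_iff.2 ?_⟩
    intro b hb
    have h1 := hUc u hu b hb
    have h2 := hab b hb
    calc b * (a * u * a⁻¹) = (b * a) * u * a⁻¹ := by group
      _ = a * (b * u) * a⁻¹ := by rw [← h2]; group
      _ = a * u * (b * a⁻¹) := by rw [h1]; group
      _ = a * u * (a⁻¹ * b) := by
        have h3 : b * a⁻¹ = a⁻¹ * b := by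
          rw [eq_inv_mul_iff_mul_eq, ← mul_assoc, h2, mul_assoc, mul_inv_cancel, mul_one]
        rw [h3]
      _ = (a * u * a⁻¹) * b := by group
  obtain ⟨W, hW⟩ := exists_comm_sub (X := U) hUab hUf
  have hWU : W ≤ U := by
    intro x hx
    obtain ⟨u, hu, rfl⟩ := (hW x).1 hx
    exact U.mul_mem (U.inv_mem hu) (hUf u hu)
  have hWV : W ≤ V := hWU.trans hUV
  have hW2 : ∀ x ∈ W, x * x = 1 := fun x hx => hV2 x (hWV hx)
  have hWab : ∀ x ∈ W, ∀ y ∈ W, x * y = y * x := fun x hx y hy => hVab x (hWV hx) y (hWV hy)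
  have hWf : ∀ x ∈ W, f * x * f⁻¹ ∈ W := by
    intro x hx
    obtain ⟨u, hu, rfl⟩ := (hW x).1 hx
    exact (hW _).2 ⟨_, hUf u hu, by group⟩
  have hWa : ∀ x ∈ W, a * x * a⁻¹ ∈ W := by
    intro x hx
    obtain ⟨u, hu, rfl⟩ := (hW x).1 hx
    have hu' := hUa u hu
    have hu'' := inv_conj_mem hUf _ hu'
    have h1 : (a * u * a⁻¹)⁻¹ * ((a * f * a⁻¹) * (a * u * a⁻¹) * (a * f * a⁻¹)⁻¹)
        = a * (u⁻¹ * (f * u * f⁻¹)) * a⁻¹ := by group
    rw [← h1, hinv _ (hUV hu')]
    have h3 : (a * u * a⁻¹)⁻¹ * (f⁻¹ * (a * u * a⁻¹) * f)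
        = ((f⁻¹ * (a * u * a⁻¹) * f)⁻¹ * (f * (f⁻¹ * (a * u * a⁻¹) * f) * f⁻¹))⁻¹ := by
      group
    rw [h3]
    exact W.inv_mem ((hW _).2 ⟨_, hu'', rfl⟩)
  have hWfix : ∀ x ∈ W, f * x * f⁻¹ = x → x = 1 := by
    intro x hx hxf
    obtain ⟨u, hu, hxu⟩ := (hW x).1 hx
    exact comm_fixed_eq_one hodd hxu hxf (hW2 x hx)
  set x₀ : G := u₀⁻¹ * (f * u₀ * f⁻¹) with hx₀
  have hx₀W : x₀ ∈ W := (hW _).2 ⟨u₀, hu₀U, rfl⟩
  have hx₀1 : x₀ ≠ 1 := by
    intro h
    apply hu₀
    rw [hx₀, inv_mul_eq_one] at h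
    exact h.symm
  -- the order of `W` is at most four
  let C₁ : Subgroup G := Subgroup.centralizer ({a} : Set G)
  let C₂ : Subgroup G := Subgroup.centralizer ({f * a * f⁻¹} : Set G)
  have hC₁ : ∀ x, x ∈ C₁ ↔ a * x = x * a := by
    intro x
    simp [C₁, Subgroup.mem_centralizer_iff]
  have hC₂ : ∀ x, x ∈ C₂ ↔ (f * a * f⁻¹) * x = x * (f * a * f⁻¹) := by
    intro x
    simp [C₂, Subgroup.mem_centralizer_iff]
  have hrel₁ : C₁.relIndex W ≤ 2 := by
    refine le_trans (Subgroup.relIndex_le_of_le_right hWU ?_) hU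
    exact Subgroup.index_ne_zero_of_finite
  have hmapσ : C₂ = C₁.map (MulAut.conj f).toMonoidHom := by
    ext x
    rw [hC₂]
    constructor
    · intro h
      refine ⟨f⁻¹ * x * f, (hC₁ _).2 ?_, by simp [MulAut.conj_apply, mul_assoc]⟩
      have h' : f * a * f⁻¹ * x = x * (f * a * f⁻¹) := h
      calc a * (f⁻¹ * x * f) = f⁻¹ * (f * a * f⁻¹ * x) * f := by group
        _ = f⁻¹ * (x * (f * a * f⁻¹)) * f := by rw [h']
        _ = f⁻¹ * x * f * a := by group
    · rintro ⟨y, hy, rfl⟩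
      have hy' : a * y = y * a := (hC₁ y).1 hy
      show f * a * f⁻¹ * (f * y * f⁻¹) = (f * y * f⁻¹) * (f * a * f⁻¹)
      calc f * a * f⁻¹ * (f * y * f⁻¹) = f * (a * y) * f⁻¹ := by group
        _ = f * (y * a) * f⁻¹ := by rw [hy']
        _ = (f * y * f⁻¹) * (f * a * f⁻¹) := by group
  have hWσ : W.map (MulAut.conj f).toMonoidHom = W := by
    refine le_antisymm ?_ ?_
    · rintro _ ⟨y, hy, rfl⟩
      exact hWf y hy
    · intro x hx
      refine ⟨f⁻¹ * x * f, inv_conj_mem hWf x hx, ?_⟩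
      show f * (f⁻¹ * x * f) * f⁻¹ = x
      group
  have hrel₂ : C₂.relIndex W ≤ 2 := by
    have h1 : C₂.relIndex W = C₁.relIndex W := by
      rw [hmapσ]
      conv_lhs => rw [← hWσ]
      exact relIndex_map_conj C₁ W f
    rw [h1]
    exact hrel₁
  have hinf : W ⊓ (C₁ ⊓ C₂) = ⊥ := by
    refine eq_bot_iff.2 ?_
    rintro x ⟨hxW, hx1, hx2⟩
    have hx1' := (hC₁ x).1 hx1
    have hx2' := (hC₂ x).1 hx2
    rw [Subgroup.mem_bot]
    apply hWfix x hxW
    -- `y = f⁻¹ x f` commutes with `a`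
    have hyW : f⁻¹ * x * f ∈ W := inv_conj_mem hWf x hxW
    have hy : a * (f⁻¹ * x * f) = (f⁻¹ * x * f) * a := by
      calc a * (f⁻¹ * x * f) = f⁻¹ * (f * a * f⁻¹ * x) * f := by group
        _ = f⁻¹ * (x * (f * a * f⁻¹)) * f := by rw [hx2']
        _ = f⁻¹ * x * f * a := by group
    have h1 := hinv _ (hWV hyW)
    have h2 : (a * f * a⁻¹) * (f⁻¹ * x * f) * (a * f * a⁻¹)⁻¹ = x := by
      have e1 : a⁻¹ * (f⁻¹ * x * f) * a = f⁻¹ * x * f := by
        calc a⁻¹ * (f⁻¹ * x * f) * a = a⁻¹ * (a * (f⁻¹ * x * f)) := by rw [hy]; group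
          _ = f⁻¹ * x * f := by group
      calc (a * f * a⁻¹) * (f⁻¹ * x * f) * (a * f * a⁻¹)⁻¹
          = a * f * (a⁻¹ * (f⁻¹ * x * f) * a) * f⁻¹ * a⁻¹ := by group
        _ = a * x * a⁻¹ := by rw [e1]; group
        _ = x := by rw [hx1']; group
    rw [h2] at h1
    -- `f⁻² x f² = x`
    have h3 : f⁻¹ * (f⁻¹ * x * f) * f = x := h1.symm
    have hcomm2 : Commute (f ^ 2) x := by
      show f ^ 2 * x = x * f ^ 2
      calc f ^ 2 * x = f ^ 2 * (f⁻¹ * (f⁻¹ * x * f) * f) := by rw [h3]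
        _ = x * f ^ 2 := by simp only [pow_two]; group
    have hcop : Nat.Coprime 2 (orderOf f) := (Nat.coprime_two_left).2 hodd
    obtain ⟨c, hc⟩ := exists_pow_eq_self_of_coprime hcop
    have h4 : Commute f x := by
      have := hcomm2.pow_left c
      rwa [hc] at this
    have h5 : f * x = x * f := h4
    rw [h5]
    group
  have hcard4 : Nat.card W ≤ 4 := by
    have h1 : (C₁ ⊓ C₂).relIndex W ≤ C₁.relIndex W * C₂.relIndex W :=
      Subgroup.relIndex_inf_le
    have h2 : (C₁ ⊓ C₂).relIndex W = Nat.card W := by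
      rw [← Subgroup.inf_relIndex_left, hinf, Subgroup.relIndex_bot_left]
    rw [← h2]
    calc _ ≤ _ := h1
      _ ≤ 2 * 2 := Nat.mul_le_mul hrel₁ hrel₂
      _ = 4 := rfl
  -- the four elements
  set y₀ : G := f * x₀ * f⁻¹ with hy₀
  have hy₀W : y₀ ∈ W := hWf x₀ hx₀W
  have hy₀x : y₀ ≠ x₀ := fun h => hx₀1 (hWfix x₀ hx₀W h)
  have hy₀1 : y₀ ≠ 1 := by
    intro h
    apply hx₀1
    rw [hy₀] at h
    have : x₀ = f⁻¹ * (f * x₀ * f⁻¹) * f := by group
    rw [this, h]
    group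
  have hinv₀ : x₀⁻¹ = x₀ := inv_eq_of_mul_eq_one_left (hW2 x₀ hx₀W)
  have hxy1 : x₀ * y₀ ≠ 1 := by
    intro h
    apply hy₀x
    have := inv_eq_of_mul_eq_one_right h
    rw [← this, hinv₀]
  have hxyx : x₀ * y₀ ≠ x₀ := fun h => hy₀1 (by simpa using h)
  have hxyy : x₀ * y₀ ≠ y₀ := fun h => hx₀1 (by simpa using h)
  let s : Finset G := {1, x₀, y₀, x₀ * y₀}
  have hscard : s.card = 4 := by
    rw [Finset.card_insert_of_notMem, Finset.card_insert_of_notMem, Finset.card_insert_of_notMem,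
      Finset.card_singleton]
    · simp [hxyy.symm]
    · simp [hy₀x.symm, hxyx.symm]
    · simp [hx₀1.symm, hy₀1.symm, hxy1.symm]
  have hsW : ∀ x ∈ s, x ∈ W := by
    intro x hx
    simp only [s, Finset.mem_insert, Finset.mem_singleton] at hx
    rcases hx with rfl | rfl | rfl | rfl
    · exact W.one_mem
    · exact hx₀W
    · exact hy₀W
    · exact W.mul_mem hx₀W hy₀W
  have hcardW : Nat.card W = 4 := by
    refine le_antisymm hcard4 ?_
    rw [← hscard]
    have hinj : Function.Injective (fun x : s => (⟨x.1, hsW x.1 x.2⟩ : W)) := by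
      intro x y h
      exact Subtype.ext (congrArg (fun z : W => (z : G)) h)
    have := Nat.card_le_card_of_injective _ hinj
    rwa [Nat.card_eq_fintype_card, Fintype.card_coe] at this
  have hWs : ∀ x ∈ W, x ∈ s := by
    intro x hx
    by_contra hxs
    have hcard5 : (insert x s).card = 5 := by
      rw [Finset.card_insert_of_notMem hxs, hscard]
    have hsW' : ∀ z ∈ insert x s, z ∈ W := by
      intro z hz
      rcases Finset.mem_insert.1 hz with rfl | hz
      · exact hx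
      · exact hsW z hz
    have hinj : Function.Injective (fun z : (insert x s : Finset G) => (⟨z.1, hsW' z.1 z.2⟩ : W)) := by
      intro u v h
      exact Subtype.ext (congrArg (fun z : W => (z : G)) h)
    have := Nat.card_le_card_of_injective _ hinj
    rw [Nat.card_eq_fintype_card (α := (insert x s : Finset G)), Fintype.card_coe, hcard5, hcardW]
      at this
    omega
  -- `f³` acts trivially
  have hf3 : ∀ x ∈ W, f ^ 3 * x * (f ^ 3)⁻¹ = x := by
    intro x hx
    by_cases hx1 : x = 1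
    · subst hx1
      group
    -- re-run the four-element analysis at `x`
    set y : G := f * x * f⁻¹ with hy
    have hyW : y ∈ W := hWf x hx
    have hyx : y ≠ x := fun h => hx1 (hWfix x hx h)
    have hy1 : y ≠ 1 := by
      intro h
      apply hx1
      rw [hy] at h
      have : x = f⁻¹ * (f * x * f⁻¹) * f := by group
      rw [this, h]
      group
    have hinvx : x⁻¹ = x := inv_eq_of_mul_eq_one_left (hW2 x hx)
    have hxy1' : x * y ≠ 1 := by
      intro h
      apply hyx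
      have := inv_eq_of_mul_eq_one_right h
      rw [← this, hinvx]
    have hxyx' : x * y ≠ x := fun h => hy1 (by simpa using h)
    have hxyy' : x * y ≠ y := fun h => hx1 (by simpa using h)
    let t : Finset G := {1, x, y, x * y}
    have htcard : t.card = 4 := by
      rw [Finset.card_insert_of_notMem, Finset.card_insert_of_notMem, Finset.card_insert_of_notMem,
        Finset.card_singleton]
      · simp [hxyy'.symm]
      · simp [hyx.symm, hxyx'.symm]
      · simp [Ne.symm hx1, hy1.symm, hxy1'.symm]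
    have htW : ∀ z ∈ t, z ∈ W := by
      intro z hz
      simp only [t, Finset.mem_insert, Finset.mem_singleton] at hz
      rcases hz with rfl | rfl | rfl | rfl
      · exact W.one_mem
      · exact hx
      · exact hyW
      · exact W.mul_mem hx hyW
    have hWt : ∀ z ∈ W, z ∈ t := by
      intro z hz
      by_contra hzs
      have hcard5 : (insert z t).card = 5 := by
        rw [Finset.card_insert_of_notMem hzs, htcard]
      have hsW' : ∀ w ∈ insert z t, w ∈ W := by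
        intro w hw
        rcases Finset.mem_insert.1 hw with rfl | hw
        · exact hz
        · exact htW w hw
      have hinj : Function.Injective
          (fun w : (insert z t : Finset G) => (⟨w.1, hsW' w.1 w.2⟩ : W)) := by
        intro u v h
        exact Subtype.ext (congrArg (fun z : W => (z : G)) h)
      have := Nat.card_le_card_of_injective _ hinj
      rw [Nat.card_eq_fintype_card (α := (insert z t : Finset G)), Fintype.card_coe, hcard5,
        hcardW] at this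
      omega
    have hy2 : f * y * f⁻¹ = x * y := by
      have hmem := hWt _ (hWf y hyW)
      simp only [t, Finset.mem_insert, Finset.mem_singleton] at hmem
      rcases hmem with h | h | h | h
      · exfalso
        apply hy1
        have : y = f⁻¹ * (f * y * f⁻¹) * f := by group
        rw [this, h]
        group
      · exfalso
        -- `f² x f⁻² = x`
        have hcomm2 : Commute (f ^ 2) x := by
          show f ^ 2 * x = x * f ^ 2
          calc f ^ 2 * x = (f * (f * x * f⁻¹) * f⁻¹) * f ^ 2 := by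
                simp only [pow_two]; group
            _ = x * f ^ 2 := by rw [← hy, h]
        have hcop : Nat.Coprime 2 (orderOf f) := (Nat.coprime_two_left).2 hodd
        obtain ⟨c, hc⟩ := exists_pow_eq_self_of_coprime hcop
        have h4 : Commute f x := by
          have := hcomm2.pow_left c
          rwa [hc] at this
        have h5 : f * x = x * f := h4
        apply hyx
        rw [hy, h5]
        group
      · exfalso
        apply hyx
        have : x = f⁻¹ * (f * x * f⁻¹) * f := by group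
        rw [this, ← hy]
        have h' : y = f⁻¹ * (f * y * f⁻¹) * f := by group
        conv_lhs => rw [h', h]
      · exact h
    have hcompute : f ^ 3 * x * (f ^ 3)⁻¹ = f * (f * y * f⁻¹) * f⁻¹ := by
      simp only [pow_succ, pow_zero, one_mul, mul_inv_rev, hy]
      group
    rw [hcompute, hy2]
    have e1 : f * (x * y) * f⁻¹ = (f * x * f⁻¹) * (f * y * f⁻¹) := by group
    rw [e1, ← hy, hy2]
    calc y * (x * y) = (x * y) * y := hWab y hyW _ (W.mul_mem hx hyW)
      _ = x * (y * y) := by group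
      _ = x := by rw [hW2 y hyW, mul_one]
  exact involves_s4_of_action hcardW hWab hW2 ha2 hodd hf3 hWa hWf
    (fun x hx => hinv x (hWV hx)) ⟨x₀, hx₀W, fun h => hx₀1 (hWfix x₀ hx₀W h)⟩

end Cfsg.Agent.H09
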