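import Mathlib
import Cfsg.Agent.Lib.H09.S4Off
import Cfsg.Agent.Lib.H09.Hyper
import Cfsg.Agent.Lib.H09.Sect
import Cfsg.Agent.Lib.H14.ZJMap
import Cfsg.Agent.Lib.H08.HallHigman
import Cfsg.Agent.Lib.H06.PSolvable
import Cfsg.Agent.Lib.H15.CIT
import Cfsg.Agent.Lib.H18.Prod
import Cfsg.Agent.Lib.H18.Syl
import Cfsg.Agent.Lib.H01.Coprime

/-! For a solvable `S₄`-free group with trivial `O_{2'}` and Sylow `2`-subgroup of class two,
every elementary abelian subgroup of largest order lies in `O_2`. -/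

set_option autoImplicit false

namespace Cfsg.Agent.H09

open Cfsg
open scoped Pointwise

variable {G : Type*} [Group G] [Finite G]

theorem card_le_two_mul_of_cover {A B : Subgroup G} {a : G} (h : ∀ g ∈ A, g ∈ B ∨ a * g ∈ B) :
    Nat.card A ≤ 2 * Nat.card B := by
  classical
  let φ : A → B × Bool := fun g =>
    if h1 : (g : G) ∈ B then (⟨g, h1⟩, false) else (⟨a * g, (h g g.2).resolve_left h1⟩, true)
  have hφ : Function.Injective φ := by
    intro x y hxy
    by_cases hx : (x : G) ∈ B <;> by_cases hy : (y : G) ∈ B <;> simp [φ, hx, hy] at hxy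
    · exact hxy
    · exact hxy
  have := Nat.card_le_card_of_injective φ hφ
  rw [Nat.card_prod] at this
  simpa [mul_comm] using this

theorem card_sup_mul_inf_of_normalizer {X Y : Subgroup G}
    (hYX : Y ≤ Subgroup.normalizer (X : Set G)) :
    Nat.card (X ⊔ Y : Subgroup G) * Nat.card (X ⊓ Y : Subgroup G) = Nat.card X * Nat.card Y := by
  have hset : ((X ⊔ Y : Subgroup G) : Set G) = (X : Set G) * (Y : Set G) := by
    ext z
    constructor
    · intro hz
      obtain ⟨x, hx, y, hy, rfl⟩ := Cfsg.Agent.H01.exists_mul_of_mem_sup hYX hz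
      exact Set.mul_mem_mul hx hy
    · rintro ⟨x, hx, y, hy, rfl⟩
      exact mul_mem (Subgroup.mem_sup_left hx) (Subgroup.mem_sup_right hy)
  have h1 : Nat.card (X ⊔ Y : Subgroup G) = Nat.card ((X : Set G) * (Y : Set G) : Set G) :=
    Nat.card_congr (Equiv.setCongr hset)
  rw [h1]
  exact Cfsg.Agent.H18.card_set_mul_mul_card_inf X Y

/-- Elementary abelian subgroups of largest order in a Sylow subgroup of class two lie in
`O_2` in the absence of an `S₄`-section. -/
theorem elem_le_pCore [Group.IsSolvable G] (hS4 : ¬ Involves (Equiv.Perm (Fin 4)) G)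
    (hO : pPrimeCore 2 G = ⊥) {S : Subgroup G} (hSp : IsPGroup 2 S) (hQS : pCore 2 G ≤ S)
    (hcl : ∀ x ∈ S, ∀ y ∈ S, ∀ z ∈ S, (x * y * x⁻¹ * y⁻¹) * z = z * (x * y * x⁻¹ * y⁻¹))
    {A : Subgroup G} (hA : A ∈ (Cfsg.Agent.H14.elFam G 2).mx S) : A ≤ pCore 2 G := by
  classical
  by_contra hAQ
  haveI : Fact (Nat.Prime 2) := ⟨Nat.prime_two⟩
  set Q := pCore 2 G with hQ
  haveI hQn : Q.Normal := Cfsg.Agent.H01.pCore_normal 2
  have hQp : IsPGroup 2 Q := Cfsg.Agent.H01.pCore_isPGroup 2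
  have hCQ : Subgroup.centralizer (Q : Set G) ≤ Q :=
    Cfsg.Agent.H08.hall_higman (Cfsg.Agent.H06.isPSolvable_of_isSolvable 2 G) hO
  obtain ⟨hAS, ⟨hAab, hApow⟩, hAmax⟩ := hA
  have hA2 : ∀ a ∈ A, a * a = 1 := by
    intro a ha
    have := hApow a ha
    rwa [pow_two] at this
  -- the normal subgroup `V = Ω₁ Z(Q)`
  let V : Subgroup G :=
    { carrier := {z | z ∈ Q ∧ z ∈ Subgroup.centralizer (Q : Set G) ∧ z * z = 1}
      mul_mem' := by
        rintro x y ⟨hx1, hx2, hx3⟩ ⟨hy1, hy2, hy3⟩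
        refine ⟨Q.mul_mem hx1 hy1, Subgroup.mul_mem _ hx2 hy2, ?_⟩
        have hc : x * y = y * x := (Subgroup.mem_centralizer_iff.1 hy2 x hx1)
        calc x * y * (x * y) = x * (y * x) * y := by group
          _ = x * (x * y) * y := by rw [hc]
          _ = (x * x) * (y * y) := by group
          _ = 1 := by rw [hx3, hy3, one_mul]
      one_mem' := ⟨Q.one_mem, Subgroup.one_mem _, by simp⟩
      inv_mem' := by
        rintro x ⟨hx1, hx2, hx3⟩
        refine ⟨Q.inv_mem hx1, Subgroup.inv_mem _ hx2, ?_⟩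
        rw [← mul_inv_rev, hx3, inv_one] }
  have hVmem : ∀ z, z ∈ V ↔ z ∈ Q ∧ z ∈ Subgroup.centralizer (Q : Set G) ∧ z * z = 1 :=
    fun z => Iff.rfl
  have hVQ : V ≤ Q := fun z hz => hz.1
  have hQV : ∀ q ∈ Q, ∀ v ∈ V, q * v = v * q := fun q hq v hv =>
    Subgroup.mem_centralizer_iff.1 hv.2.1 q hq
  have hVab : ∀ x ∈ V, ∀ y ∈ V, x * y = y * x := fun x hx y hy => hQV x (hVQ hx) y hy
  have hV2 : ∀ x ∈ V, x * x = 1 := fun x hx => hx.2.2
  have hVn : V.Normal := by
    constructor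
    rintro z ⟨hz1, hz2, hz3⟩ g
    refine ⟨hQn.conj_mem z hz1 g, Subgroup.mem_centralizer_iff.2 ?_, ?_⟩
    · intro q hq
      have h1 : g⁻¹ * q * g ∈ Q := by
        have := hQn.conj_mem q hq g⁻¹
        simpa using this
      have h2 := Subgroup.mem_centralizer_iff.1 hz2 _ h1
      calc q * (g * z * g⁻¹) = g * ((g⁻¹ * q * g) * z) * g⁻¹ := by group
        _ = g * (z * (g⁻¹ * q * g)) * g⁻¹ := by rw [h2]
        _ = g * z * g⁻¹ * q := by group
    · calc g * z * g⁻¹ * (g * z * g⁻¹) = g * (z * z) * g⁻¹ := by group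
        _ = 1 := by rw [hz3]; group
  -- commutators with `A` lie in `V`
  have hcom : ∀ x ∈ S, ∀ a ∈ A, x * a * x⁻¹ * a⁻¹ ∈ V := by
    intro x hx a ha
    set c := x * a * x⁻¹ * a⁻¹ with hc
    have hcS : c ∈ S := S.mul_mem (S.mul_mem (S.mul_mem hx (hAS ha)) (S.inv_mem hx))
      (S.inv_mem (hAS ha))
    have hcC : ∀ z ∈ S, c * z = z * c := hcl x hx a (hAS ha)
    have hcCQ : c ∈ Subgroup.centralizer (Q : Set G) :=
      Subgroup.mem_centralizer_iff.2 (fun q hq => (hcC q (hQS hq)).symm)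
    refine ⟨hCQ hcCQ, hcCQ, ?_⟩
    have hsq : (c * a) * (c * a) = 1 := by
      have e : c * a = x * a * x⁻¹ := by rw [hc]; group
      rw [e]
      calc x * a * x⁻¹ * (x * a * x⁻¹) = x * (a * a) * x⁻¹ := by group
        _ = 1 := by rw [hA2 a ha]; group
    have hca := hcC a (hAS ha)
    calc c * c = (c * c) * (a * a) := by rw [hA2 a ha, mul_one]
      _ = c * (c * a) * a := by group
      _ = c * (a * c) * a := by rw [hca]
      _ = (c * a) * (c * a) := by group
      _ = 1 := hsq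
  -- the kernel of the action on `Q / V`
  let K : Subgroup G :=
    { carrier := {g | ∀ q ∈ Q, q⁻¹ * (g * q * g⁻¹) ∈ V}
      mul_mem' := by
        intro g h hg hh q hq
        have h1 := hh q hq
        have hq' : h * q * h⁻¹ ∈ Q := hQn.conj_mem q hq h
        have h2 := hg _ hq'
        have e : q⁻¹ * (g * h * q * (g * h)⁻¹) =
            (q⁻¹ * (h * q * h⁻¹)) * ((h * q * h⁻¹)⁻¹ * (g * (h * q * h⁻¹) * g⁻¹)) := by group
        rw [e]
        exact V.mul_mem h1 h2
      one_mem' := by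
        intro q _
        simp
      inv_mem' := by
        intro g hg q hq
        have hq' : g⁻¹ * q * g ∈ Q := by
          have := hQn.conj_mem q hq g⁻¹
          simpa using this
        have h1 := hg _ hq'
        have e : q⁻¹ * (g⁻¹ * q * g⁻¹⁻¹) =
            ((g⁻¹ * q * g)⁻¹ * (g * (g⁻¹ * q * g) * g⁻¹))⁻¹ := by group
        rw [e]
        exact V.inv_mem h1 }
  have hKmem : ∀ g, g ∈ K ↔ ∀ q ∈ Q, q⁻¹ * (g * q * g⁻¹) ∈ V := fun g => Iff.rfl
  have hKn : K.Normal := by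
    constructor
    intro g hg t q hq
    have hq' : t⁻¹ * q * t ∈ Q := by
      have := hQn.conj_mem q hq t⁻¹
      simpa using this
    have h1 := hVn.conj_mem _ (hg _ hq') t
    have e : t * ((t⁻¹ * q * t)⁻¹ * (g * (t⁻¹ * q * t) * g⁻¹)) * t⁻¹ =
        q⁻¹ * (t * g * t⁻¹ * q * (t * g * t⁻¹)⁻¹) := by group
    rwa [e] at h1
  have hAK : A ≤ K := by
    intro a ha q hq
    have h1 := hcom q⁻¹ (hQS (Q.inv_mem hq)) a ha
    have e : q⁻¹ * a * q⁻¹⁻¹ * a⁻¹ = q⁻¹ * (a * q * a⁻¹) := by group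
    rwa [e] at h1
  -- pass to the quotient
  let π : G →* G ⧸ Q := QuotientGroup.mk' Q
  have hπker : ∀ g, π g = 1 ↔ g ∈ Q := fun g => QuotientGroup.eq_one_iff g
  have hπs : Function.Surjective π := QuotientGroup.mk'_surjective Q
  have hXcore : pCore 2 (G ⧸ Q) = ⊥ := Cfsg.Agent.H15.pCore_two_quotient_eq_bot
  have hbar2 : ∀ x ∈ A.map π, x * x = 1 := by
    rintro _ ⟨a, ha, rfl⟩
    rw [← map_mul, hA2 a ha, map_one]
  have hbar1 : A.map π ≠ ⊥ := by
    intro h
    apply hAQ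
    intro a ha
    have h1 : π a ∈ A.map π := ⟨a, ha, rfl⟩
    rw [h, Subgroup.mem_bot] at h1
    exact (hπker a).1 h1
  obtain ⟨cb, Bb, yb, hcb, hBb, hsplit, hyb1, hybodd, hybB, hybinv⟩ :=
    exists_hyperplane_inverted hXcore hbar2 hbar1
  obtain ⟨a, haA, rfl⟩ := hcb
  -- the hyperplane upstairs
  let B : Subgroup G := A ⊓ Bb.comap π
  have hBA : B ≤ A := inf_le_left
  have hcover : ∀ g ∈ A, g ∈ B ∨ a * g ∈ B := by
    intro g hg
    rcases hsplit (π g) ⟨g, hg, rfl⟩ with h | h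
    · exact Or.inl ⟨hg, h⟩
    · refine Or.inr ⟨A.mul_mem haA hg, ?_⟩
      show π (a * g) ∈ Bb
      rw [map_mul]
      exact h
  have hA2B : Nat.card A ≤ 2 * Nat.card B := card_le_two_mul_of_cover hcover
  -- the element of odd order
  obtain ⟨y', rfl⟩ := hπs yb
  set f₀ : G := y' * a * y'⁻¹ * a⁻¹ with hf₀
  have hf₀K : f₀ ∈ K := K.mul_mem (hKn.conj_mem a (hAK haA) y') (K.inv_mem (hAK haA))
  have hπf₀ : π f₀ = π y' * π y' := by
    have h1 : π a * (π y')⁻¹ * (π a)⁻¹ = π y' := by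
      calc π a * (π y')⁻¹ * (π a)⁻¹ = (π a * π y' * (π a)⁻¹)⁻¹ := by group
        _ = π y' := by rw [hybinv, inv_inv]
    rw [hf₀, map_mul, map_mul, map_mul, map_inv, map_inv]
    calc π y' * π a * (π y')⁻¹ * (π a)⁻¹ = π y' * (π a * (π y')⁻¹ * (π a)⁻¹) := by group
      _ = π y' * π y' := by rw [h1]
  obtain ⟨e, m, hm, hem⟩ := Nat.exists_eq_two_pow_mul_odd (orderOf_pos f₀).ne'
  set f : G := f₀ ^ (2 ^ e) with hf
  have hfm : f ^ m = 1 := by
    rw [hf, ← pow_mul, ← hem, pow_orderOf_eq_one]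
  have hodd : Odd (orderOf f) := Odd.of_dvd_nat hm (orderOf_dvd_of_pow_eq_one hfm)
  have hfK : f ∈ K := K.pow_mem hf₀K _
  set w : G ⧸ Q := π f with hw
  have hwdef : w = (π y' * π y') ^ (2 ^ e) := by
    rw [hw, hf, map_pow, hπf₀]
  have hw1 : w ≠ 1 := by
    intro h
    rw [hwdef, ← pow_two, ← pow_mul] at h
    have h1 : orderOf (π y') ∣ 2 * 2 ^ e := orderOf_dvd_of_pow_eq_one h
    have hcop : (orderOf (π y')).Coprime (2 ^ (e + 1)) := by
      refine Nat.Coprime.pow_right _ ?_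
      exact (Nat.coprime_two_right).2 hybodd
    have h2 : orderOf (π y') ∣ 2 ^ (e + 1) := by
      rwa [pow_succ, mul_comm]
    have h3 : orderOf (π y') = 1 := Nat.Coprime.eq_one_of_dvd hcop h2
    exact hyb1 (orderOf_eq_one_iff.1 h3)
  have hwinv : π a * w * (π a)⁻¹ = w⁻¹ := by
    rw [hwdef, ← conj_pow]
    have h1 : π a * (π y' * π y') * (π a)⁻¹ = (π y' * π y')⁻¹ := by
      calc π a * (π y' * π y') * (π a)⁻¹ = (π a * π y' * (π a)⁻¹) * (π a * π y' * (π a)⁻¹) := by group
        _ = (π y')⁻¹ * (π y')⁻¹ := by rw [hybinv]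
        _ = (π y' * π y')⁻¹ := by group
    rw [h1, inv_pow]
  have hwB : ∀ b ∈ Bb, b * w = w * b := by
    intro b hb
    have h1 : Commute b (π y') := hybB b hb
    have h2 : Commute b w := by
      rw [hwdef]
      exact (h1.mul_right h1).pow_right _
    exact h2
  have hne : ∃ v ∈ V, f * v * f⁻¹ ≠ v := by
    by_contra hcon
    push Not at hcon
    apply hw1
    rw [hw, hπker]
    refine hCQ (Subgroup.mem_centralizer_iff.2 ?_)
    intro q hq
    have h1 := hfK q hq
    have h2 := comm_fixed_eq_one hodd (u := q) rfl (hcon _ h1) (hV2 _ h1)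
    rw [inv_mul_eq_one] at h2
    calc q * f = (f * q * f⁻¹) * f := by rw [← h2]
      _ = f * q := by group
  have hinv : ∀ v ∈ V, (a * f * a⁻¹) * v * (a * f * a⁻¹)⁻¹ = f⁻¹ * v * f := by
    intro v hv
    have hk : (a * f * a⁻¹) * f ∈ Q := by
      rw [← hπker, map_mul, map_mul, map_mul, map_inv, ← hw, hwinv]
      group
    have hv' : f⁻¹ * v * f ∈ V := by
      have := hVn.conj_mem v hv f⁻¹
      simpa using this
    have h1 := hQV _ hk _ hv'
    calc (a * f * a⁻¹) * v * (a * f * a⁻¹)⁻¹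
        = ((a * f * a⁻¹) * f) * (f⁻¹ * v * f) * ((a * f * a⁻¹) * f)⁻¹ := by group
      _ = f⁻¹ * v * f := by rw [h1]; group
  have hcomm : ∀ b ∈ B, ∀ v ∈ V, (b * f * b⁻¹) * v * (b * f * b⁻¹)⁻¹ = f * v * f⁻¹ := by
    intro b hb v hv
    have hk : (b * f * b⁻¹) * f⁻¹ ∈ Q := by
      rw [← hπker, map_mul, map_mul, map_mul, map_inv, map_inv, ← hw, hwB _ hb.2]
      group
    have hv' : f * v * f⁻¹ ∈ V := hVn.conj_mem v hv f
    have h1 := hQV _ hk _ hv'
    calc (b * f * b⁻¹) * v * (b * f * b⁻¹)⁻¹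
        = ((b * f * b⁻¹) * f⁻¹) * (f * v * f⁻¹) * ((b * f * b⁻¹) * f⁻¹)⁻¹ := by group
      _ = f * v * f⁻¹ := by rw [h1]; group
  have hB2 : IsPGroup 2 B := by
    intro x
    refine ⟨1, Subtype.ext ?_⟩
    show (x : G) ^ (2 ^ 1) = 1
    rw [pow_one, pow_two]
    exact hA2 _ (hBA x.2)
  have hU : (Subgroup.centralizer ({a} : Set G)).relIndex
      (V ⊓ Subgroup.centralizer (B : Set G)) ≤ 2 := by
    set U : Subgroup G := V ⊓ Subgroup.centralizer (B : Set G) with hUdef
    have hUV : U ≤ V := inf_le_left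
    have hUB : ∀ u ∈ U, ∀ b ∈ B, b * u = u * b := fun u hu b hb =>
      Subgroup.mem_centralizer_iff.1 hu.2 b hb
    have hUN : U ≤ Subgroup.normalizer (B : Set G) := by
      intro u hu
      refine mem_normalizer_of_conj_le ?_
      intro b hb
      rw [← hUB u hu b hb]
      simpa using hb
    have hF : (Cfsg.Agent.H14.elFam G 2).F (B ⊔ U) := by
      have hform : ∀ x ∈ B ⊔ U, ∃ b ∈ B, ∃ u ∈ U, x = b * u := fun x hx =>
        Cfsg.Agent.H01.exists_mul_of_mem_sup hUN hx
      refine ⟨?_, ?_⟩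
      · intro x hx y hy
        obtain ⟨b, hb, u, hu, rfl⟩ := hform x hx
        obtain ⟨b', hb', u', hu', rfl⟩ := hform y hy
        have h1 := hAab b (hBA hb) b' (hBA hb')
        have h2 := hVab u (hUV hu) u' (hUV hu')
        have h3 := hUB u' hu' b hb
        have h4 := hUB u hu b' hb'
        calc b * u * (b' * u') = b * (u * b') * u' := by group
          _ = b * (b' * u) * u' := by rw [h4]
          _ = (b * b') * (u * u') := by group
          _ = (b' * b) * (u' * u) := by rw [h1, h2]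
          _ = b' * (b * u') * u := by group
          _ = b' * (u' * b) * u := by rw [h3]
          _ = b' * u' * (b * u) := by group
      · intro x hx
        obtain ⟨b, hb, u, hu, rfl⟩ := hform x hx
        have h4 := hUB u hu b hb
        rw [pow_two]
        calc b * u * (b * u) = b * (u * b) * u := by group
          _ = b * (b * u) * u := by rw [h4]
          _ = (b * b) * (u * u) := by group
          _ = 1 := by rw [hA2 b (hBA hb), hV2 u (hUV hu), one_mul]
    have hsupS : B ⊔ U ≤ S := sup_le (hBA.trans hAS) (hUV.trans (hVQ.trans hQS))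
    have h1 : Nat.card (B ⊔ U : Subgroup G) ≤ Nat.card A := hAmax _ hsupS hF
    have h2 := card_sup_mul_inf_of_normalizer hUN
    have hCle : B ⊓ U ≤ Subgroup.centralizer ({a} : Set G) ⊓ U := by
      rintro b ⟨hb, hbU⟩
      refine ⟨Subgroup.mem_centralizer_iff.2 ?_, hbU⟩
      intro w' hw'
      rw [Set.mem_singleton_iff] at hw'
      subst hw'
      exact hAab _ haA _ (hBA hb)
    have h3 : Nat.card (B ⊓ U : Subgroup G) ≤
        Nat.card (Subgroup.centralizer ({a} : Set G) ⊓ U : Subgroup G) :=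
      Subgroup.card_le_of_le hCle
    have h4 := Cfsg.Agent.H18.card_inf_mul_relIndex (Subgroup.centralizer ({a} : Set G)) U
    have hBpos : 0 < Nat.card B := Nat.card_pos
    have hCpos : 0 < Nat.card (Subgroup.centralizer ({a} : Set G) ⊓ U : Subgroup G) := Nat.card_pos
    set r := (Subgroup.centralizer ({a} : Set G)).relIndex U with hr
    set X₁ := Nat.card (Subgroup.centralizer ({a} : Set G) ⊓ U : Subgroup G) with hX₁
    have h5 : Nat.card B * Nat.card U ≤ Nat.card B * (2 * X₁) := by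
      calc Nat.card B * Nat.card U = Nat.card (B ⊔ U : Subgroup G) * Nat.card (B ⊓ U : Subgroup G) :=
            h2.symm
        _ ≤ (2 * Nat.card B) * X₁ := Nat.mul_le_mul (h1.trans hA2B) h3
        _ = Nat.card B * (2 * X₁) := by ring
    have h6 : Nat.card U ≤ 2 * X₁ := Nat.le_of_mul_le_mul_left h5 hBpos
    rw [← h4] at h6
    have h7 : X₁ * r ≤ X₁ * 2 := by
      calc X₁ * r ≤ 2 * X₁ := h6
        _ = X₁ * 2 := by ring
    exact Nat.le_of_mul_le_mul_left h7 hCpos
  exact hS4 (involves_s4_of_offender hVn hVab hV2 hB2 (fun b hb => hAab a haA b (hBA hb))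
    (hA2 a haA) hodd hne hinv hcomm hU)

/-- Under the same hypotheses the elementary abelian Thompson subgroup is normal. -/
theorem jj_normal_of_le {Q S : Subgroup G} (hQn : Q.Normal) (hQS : Q ≤ S)
    (h : ∀ A ∈ (Cfsg.Agent.H14.elFam G 2).mx S, A ≤ Q) :
    ((Cfsg.Agent.H14.elFam G 2).jj S).Normal := by
  constructor
  intro x hx g
  have hle : (Cfsg.Agent.H14.elFam G 2).jj S ≤
      ((Cfsg.Agent.H14.elFam G 2).jj S).comap (MulAut.conj g).toMonoidHom := by
    refine sSup_le ?_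
    intro A hA a ha
    rw [Subgroup.mem_comap]
    have hA' : A.map (MulAut.conj g).toMonoidHom ∈ (Cfsg.Agent.H14.elFam G 2).mx S := by
      refine ⟨?_, (Cfsg.Agent.H14.elFam G 2).F_conj A g hA.2.1, ?_⟩
      · rintro _ ⟨b, hb, rfl⟩
        exact hQS (hQn.conj_mem b (h A hA hb) g)
      · intro B hB hFB
        have := hA.2.2 B hB hFB
        have hcard : Nat.card (A.map (MulAut.conj g).toMonoidHom) = Nat.card A :=
          Subgroup.card_map_of_injective (MulAut.conj g).injective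
        rwa [hcard]
    exact (le_sSup hA') (Subgroup.mem_map_of_mem _ ha)
  exact hle hx

end Cfsg.Agent.H09
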